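import Cfsg.Prelude.Def_Blocks
import Cfsg.Agent.Char.Ortho
import Mathlib.RingTheory.IntegralClosure.IntegrallyClosed
import Mathlib.RingTheory.Polynomial.RationalRoot
import Mathlib.Algebra.CharP.Lemmas
import Mathlib.RingTheory.Ideal.Span

/-!
# Small arithmetical facts about characters

`classMult` is the averaged class multiplication identity; `dvd_of_eq_natCast_mul_isIntegral`
turns divisibility among algebraic integers into divisibility of natural numbers.
-/

namespace Cfsg.Agent.CharArith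

open Cfsg.Agent.Char
open scoped ComplexConjugate

universe u

/-- If `n = d * z` in `ℂ` with natural `n`, `d` and an algebraic integer `z`, then `d ∣ n`. -/
theorem dvd_of_eq_natCast_mul_isIntegral {n d : ℕ} {z : ℂ} (hz : IsIntegral ℤ z)
    (h : (n : ℂ) = (d : ℂ) * z) : d ∣ n := by
  rcases eq_or_ne d 0 with rfl | hd
  · simp_all
  have hz' : z = algebraMap ℚ ℂ ((n : ℚ) / d) := by
    rw [map_div₀, map_natCast, map_natCast, h, mul_div_cancel_left₀]
    exact_mod_cast hd
  obtain ⟨k, hk⟩ := IsIntegrallyClosed.isIntegral_iff.1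
    ((isIntegral_algebraMap_iff (algebraMap ℚ ℂ).injective).1 (hz' ▸ hz))
  have h2 : ((d : ℤ) * k : ℤ) = (n : ℤ) := by
    have hk' : ((k : ℤ) : ℚ) = (n : ℚ) / d := by simpa using hk
    have : ((d : ℚ)) * (k : ℚ) = (n : ℚ) := by
      rw [hk', mul_div_cancel₀]
      exact_mod_cast hd
    exact_mod_cast this
  exact Int.natCast_dvd_natCast.1 ⟨k, h2.symm⟩

variable {G : Type u} [Group G]

theorem charDegree_spec {χ : G → ℂ} (h : IsCharacter G χ) [Finite G] :
    χ 1 = (charDegree χ : ℂ) := by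
  obtain ⟨n, hn⟩ := IsChar.degree h
  simp [charDegree, hn]

theorem irr_degree_spec [Finite G] (χ : IrrCharacter G) :
    (χ : G → ℂ) 1 = (charDegree (χ : G → ℂ) : ℂ) ∧ 0 < charDegree (χ : G → ℂ) := by
  obtain ⟨n, hn0, hn⟩ := IsIrr.degree χ.2
  simp [charDegree, hn, hn0]

/-- Averaged class multiplication: `χ 1 * ∑ a, χ (a x a⁻¹ y) = |G| χ x χ y`. -/
theorem classMult [Fintype G] {χ : G → ℂ} (h : IsIrrCharacter G χ) (x y : G) :
    χ 1 * ∑ a : G, χ (a * x * a⁻¹ * y) = (Nat.card G : ℂ) * χ x * χ y := by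
  classical
  obtain ⟨n, ρ, hρ, rfl⟩ := h
  let f : G → ℂ := fun g => ((Finset.univ.filter fun a : G => a * x * a⁻¹ = g).card : ℂ)
  have hf : IsClassFunction G f := by
    intro g k
    simp only [f]
    norm_cast
    refine Finset.card_bij (fun a _ => k⁻¹ * a) ?_ ?_ ?_
    · intro a ha
      simp only [Finset.mem_filter, Finset.mem_univ, true_and] at ha ⊢
      rw [mul_inv_rev, inv_inv]
      calc k⁻¹ * a * x * (a⁻¹ * k) = k⁻¹ * (a * x * a⁻¹) * k := by group
        _ = k⁻¹ * (k * g * k⁻¹) * k := by rw [ha]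
        _ = g := by group
    · intro a _ b _ e
      exact mul_left_cancel e
    · intro b hb
      refine ⟨k * b, ?_, by group⟩
      simp only [Finset.mem_filter, Finset.mem_univ, true_and] at hb ⊢
      rw [← hb]
      group
  obtain ⟨c, hc, hc2⟩ := sum_smul_rep_eq_scalar ρ hρ hf
  have hsum : ∀ v : G → ℂ, ∑ g, f g * v g = ∑ a : G, v (a * x * a⁻¹) := by
    intro v
    rw [← Finset.sum_fiberwise_of_maps_to (g := fun a : G => a * x * a⁻¹) (t := Finset.univ)
      (fun _ _ => Finset.mem_univ _) (fun a : G => v (a * x * a⁻¹))]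
    refine Finset.sum_congr rfl fun g _ => ?_
    rw [Finset.sum_congr rfl (g := fun _ => v g) (fun a ha => by rw [(Finset.mem_filter.1 ha).2]),
      Finset.sum_const, nsmul_eq_mul]
  have h1 : ∑ a : G, ρ.character (a * x * a⁻¹ * y) = c * ρ.character y := by
    rw [← hsum fun g => ρ.character (g * y)]
    have e : ∀ T : Module.End ℂ (Fin n → ℂ), T = ∑ g, f g • (ρ g * ρ y) →
        LinearMap.trace ℂ (Fin n → ℂ) T = ∑ g, f g * ρ.character (g * y) := by
      intro T hT
      rw [hT, map_sum]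
      refine Finset.sum_congr rfl fun g _ => ?_
      rw [map_smul, smul_eq_mul, ← map_mul]
      rfl
    rw [← e ((∑ g, f g • ρ g) * ρ y) (by simp only [Finset.sum_mul, smul_mul_assoc]), hc]
    show LinearMap.trace ℂ (Fin n → ℂ) ((c • (1 : Module.End ℂ (Fin n → ℂ))) * ρ y) = _
    rw [smul_mul_assoc, one_mul, map_smul, smul_eq_mul]
    rfl
  have h2 : c * ρ.character 1 = (Nat.card G : ℂ) * ρ.character x := by
    rw [ρ.char_one, hc2, hsum ρ.character]
    rw [Finset.sum_congr rfl fun a _ =>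
      (isClassFunction_of_isIrr ⟨n, ρ, hρ, rfl⟩) x a]
    simp [Nat.card_eq_fintype_card]
  rw [h1]
  linear_combination ρ.character y * h2

/-- A representation on a one dimensional space gives a multiplicative character. -/
theorem linear_mul [Finite G] {χ : G → ℂ} (h : IsCharacter G χ) (h1 : χ 1 = 1) (g k : G) :
    χ (g * k) = χ g * χ k := by
  obtain ⟨n, ρ, rfl⟩ := h
  have hn : n = 1 := by simpa [ρ.char_one] using h1
  subst hn
  have hs : ∀ g : G, ρ g = ρ.character g • (LinearMap.id : (Fin 1 → ℂ) →ₗ[ℂ] (Fin 1 → ℂ)) := by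
    intro g
    have hg : ρ g = (ρ g (fun _ => 1) 0) • (LinearMap.id : (Fin 1 → ℂ) →ₗ[ℂ] (Fin 1 → ℂ)) := by
      refine LinearMap.ext fun v => funext fun i => ?_
      have hv : v = v 0 • (fun _ => (1 : ℂ)) := funext fun j => by
        simp [Subsingleton.elim j 0]
      conv_lhs => rw [hv, map_smul]
      simp [Subsingleton.elim i 0, mul_comm]
    have ht : ρ.character g = ρ g (fun _ => 1) 0 := by
      show LinearMap.trace ℂ _ (ρ g) = _
      conv_lhs => rw [hg, map_smul, LinearMap.trace_id]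
      simp
    rw [ht]; exact hg
  have h2 : ρ.character (g * k) = LinearMap.trace ℂ (Fin 1 → ℂ) (ρ g * ρ k) := by
    rw [← map_mul]; rfl
  rw [h2, hs g, hs k, smul_mul_smul_comm, map_smul]
  have : LinearMap.trace ℂ (Fin 1 → ℂ) ((LinearMap.id : (Fin 1 → ℂ) →ₗ[ℂ] (Fin 1 → ℂ)) * LinearMap.id) = 1 := by
    rw [show (LinearMap.id : (Fin 1 → ℂ) →ₗ[ℂ] (Fin 1 → ℂ)) = 1 from rfl, one_mul]
    simp
  rw [this, smul_eq_mul, mul_one]

/-- A character that vanishes at an element of `p`-power order has degree divisible by `p`. -/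
theorem dvd_degree_of_eq_zero [Finite G] (p : ℕ) [Fact p.Prime] {χ : G → ℂ} (h : IsCharacter G χ)
    (g : G) (hg : ∃ j, orderOf g = p ^ j) (h0 : χ g = 0) : p ∣ charDegree χ := by
  classical
  obtain ⟨n, ρ, rfl⟩ := h
  obtain ⟨j, hj⟩ := hg
  obtain ⟨μ, b, -, hμ, hχ⟩ := Char.exists_eigenbasis ρ g
  have hm : Module.finrank ℂ (Fin n → ℂ) = n := Module.finrank_fin_fun ℂ
  let a : Fin (Module.finrank ℂ (Fin n → ℂ)) → Cfsg.AlgInt := fun i =>
    ⟨μ i, IsIntegral.of_pow (orderOf_pos g) (by rw [hμ i]; exact isIntegral_one)⟩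
  have hsum : ∑ i, a i = 0 := Subtype.ext (by
    rw [show ρ.character g = 0 from h0] at hχ
    simp only [a, AddSubmonoidClass.coe_finsetSum, ZeroMemClass.coe_zero]
    exact hχ.symm)
  let I : Ideal Cfsg.AlgInt := Ideal.span {(p : Cfsg.AlgInt)}
  have key : ∀ s : Finset (Fin (Module.finrank ℂ (Fin n → ℂ))),
      (∑ i ∈ s, a i) ^ (p ^ j) - (∑ i ∈ s, a i ^ (p ^ j)) ∈ I := by
    intro s
    induction s using Finset.induction with
    | empty => simp [zero_pow (pow_ne_zero j (Fact.out : p.Prime).ne_zero)]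
    | insert i s hi ih =>
      obtain ⟨r, hr⟩ := exists_add_pow_prime_pow_eq (Fact.out : p.Prime) (a i) (∑ k ∈ s, a k) j
      rw [Finset.sum_insert hi, Finset.sum_insert hi, hr]
      have e : a i ^ p ^ j + (∑ k ∈ s, a k) ^ p ^ j + (p : Cfsg.AlgInt) * a i * (∑ k ∈ s, a k) * r
          - (a i ^ p ^ j + ∑ k ∈ s, a k ^ p ^ j) =
          ((∑ k ∈ s, a k) ^ p ^ j - ∑ k ∈ s, a k ^ p ^ j) + (p : Cfsg.AlgInt) * (a i * (∑ k ∈ s, a k) * r) := by
        ring
      rw [e]
      exact I.add_mem ih (I.mul_mem_right _ (Ideal.mem_span_singleton_self _))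
  have hone : ∀ i, a i ^ (p ^ j) = 1 := fun i => Subtype.ext (by simpa [a, hj] using hμ i)
  have := key Finset.univ
  simp only [hsum, hone, zero_pow (pow_ne_zero j (Fact.out : p.Prime).ne_zero), Finset.sum_const,
    Finset.card_univ, Fintype.card_fin, nsmul_eq_mul, mul_one, zero_sub] at this
  rw [Submodule.neg_mem_iff, Ideal.mem_span_singleton'] at this
  obtain ⟨z, hz⟩ := this
  have hz' := congrArg (Subtype.val : Cfsg.AlgInt → ℂ) hz
  simp only [MulMemClass.coe_mul, SubringClass.coe_natCast, hm] at hz'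
  have hd : charDegree ρ.character = n := by simp [charDegree, ρ.char_one, hm]
  rw [hd]
  exact dvd_of_eq_natCast_mul_isIntegral z.2 (hz'.symm.trans (mul_comm _ _))

end Cfsg.Agent.CharArith
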