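import Cfsg.Agent.CharArith.Central
import Cfsg.Agent.Char.Induced
import Cfsg.Agent.Char.Gen
import Cfsg.Agent.Char.Linear
import Mathlib.GroupTheory.Sylow
import Mathlib.GroupTheory.SpecificGroups.Cyclic

/-!
# Faithful irreducible characters of prime codegree
-/

namespace Cfsg.Agent.CharArith

open Cfsg.Agent.Char
open scoped ComplexConjugate

universe u

variable {G : Type u} [Group G] [Finite G]

/-- At a central element an irreducible character has absolute value equal to its degree. -/
theorem center_mul_conj {χ : G → ℂ} (h : IsIrrCharacter G χ) {z : G}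
    (hz : z ∈ Subgroup.center G) : χ z * conj (χ z) = (charDegree χ : ℂ) ^ 2 := by
  have := Fintype.ofFinite G
  have hm := classMult h z z⁻¹
  have hc : ∀ a : G, χ (a * z * a⁻¹ * z⁻¹) = χ 1 := fun a => by
    rw [Subgroup.mem_center_iff.1 hz a, mul_inv_cancel_right, mul_inv_cancel]
  simp only [hc, Finset.sum_const, Finset.card_univ, nsmul_eq_mul,
    IsChar.inv_eq_conj (IsIrr.isCharacter h), ← Nat.card_eq_fintype_card,
    charDegree_spec (IsIrr.isCharacter h)] at hm
  refine mul_left_cancel₀ (Nat.cast_ne_zero.2 (Nat.card_pos (α := G)).ne' :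
    (Nat.card G : ℂ) ≠ 0) ?_
  linear_combination -hm

/-- The square of the degree times the order of the centre is at most the group order. -/
theorem card_center_mul_sq_le {χ : G → ℂ} (h : IsIrrCharacter G χ) :
    Nat.card (Subgroup.center G) * charDegree χ ^ 2 ≤ Nat.card G := by
  classical
  have := Fintype.ofFinite G
  have hn : classInner χ χ = 1 := classInner_irr_self h
  rw [classInner, inv_mul_eq_one₀ (card_ne_zero (G := G))] at hn
  have hn' : (Nat.card G : ℝ) = ∑ g : G, Complex.normSq (χ g) := by
    apply Complex.ofReal_injective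
    rw [Complex.ofReal_sum, Complex.ofReal_natCast, hn]
    exact Finset.sum_congr rfl fun g _ => Complex.mul_conj (χ g)
  have hle : (Nat.card (Subgroup.center G) * charDegree χ ^ 2 : ℝ) ≤ Nat.card G := by
    rw [hn']
    calc (Nat.card (Subgroup.center G) * charDegree χ ^ 2 : ℝ)
        = ∑ g ∈ Finset.univ.filter (fun g : G => g ∈ Subgroup.center G), Complex.normSq (χ g) := by
          rw [Finset.sum_congr rfl (g := fun _ => ((charDegree χ : ℝ) ^ 2)) fun g hg => ?_]
          · rw [Finset.sum_const, nsmul_eq_mul, Nat.card_eq_fintype_card, Fintype.card_subtype]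
          · apply Complex.ofReal_injective
            rw [← Complex.mul_conj, center_mul_conj h (Finset.mem_filter.1 hg).2]
            simp
      _ ≤ _ := Finset.sum_le_sum_of_subset_of_nonneg (Finset.subset_univ _)
          fun g _ _ => Complex.normSq_nonneg _
  exact_mod_cast hle

/-- A constituent of the restriction to `H` has degree at least `χ 1 / [G : H]`. -/
theorem degree_le_index_mul {χ : G → ℂ} (h : IsIrrCharacter G χ) (H : Subgroup G) :
    ∃ θ : IrrCharacter H, charDegree χ ≤ H.index * charDegree (θ : H → ℂ) := by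
  classical
  have := Fintype.ofFinite G
  have hres := isCharacter_res H (IsIrr.isCharacter h)
  obtain ⟨θ, hθ⟩ := IsChar.exists_constituent hres (fun e => IsIrr.one_ne_zero h (congrFun e 1))
  refine ⟨θ, ?_⟩
  have hind := isCharacter_indFun H (IsIrr.isCharacter θ.2)
  have hne : classInner (indFun H (θ : H → ℂ)) χ ≠ 0 := by
    rw [classInner_indFun_left H _ (isClassFunction_of_isIrr h), ← classInner_conj_symm, map_ne_zero]
    exact hθ
  obtain ⟨k, hk⟩ := IsChar.degree (IsChar.sub_constituent hind h hne)
  rw [Pi.sub_apply, indFun_apply_one, charDegree_spec (IsIrr.isCharacter θ.2),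
    charDegree_spec (IsIrr.isCharacter h), sub_eq_iff_eq_add] at hk
  have : H.index * charDegree (θ : H → ℂ) = k + charDegree χ := by exact_mod_cast hk
  omega

/-- A group with a faithful irreducible character of prime codegree `p` is cyclic of order `p`
or has a self-centralising normal subgroup of order `p`. -/
theorem prime_codegree_structure {χ : G → ℂ} (h : IsIrrCharacter G χ)
    (hfaith : ∀ g : G, χ g = χ 1 → g = 1) {p : ℕ} (hp : p.Prime)
    (hcod : Nat.card G = p * charDegree χ) :
    (charDegree χ = 1 ∧ Nat.card G = p) ∨ (1 < charDegree χ ∧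
      ∃ P : Subgroup G, P.Normal ∧ Nat.card P = p ∧ ¬ p ∣ charDegree χ ∧
        Subgroup.centralizer (P : Set G) = P) := by
  classical
  have := Fintype.ofFinite G
  haveI : Fact p.Prime := ⟨hp⟩
  obtain ⟨h1, hpos⟩ := irr_degree_spec (⟨χ, h⟩ : IrrCharacter G)
  rcases eq_or_lt_of_le (Nat.one_le_iff_ne_zero.2 hpos.ne') with hd | hd
  · exact Or.inl ⟨hd.symm, by rw [hcod, ← hd, mul_one]⟩
  refine Or.inr ⟨hd, ?_⟩
  set d := charDegree χ with hdd
  -- d < p, as the squares of the degrees, with the trivial one, add up to the order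
  have hlt : d < p := by
    have hs := sum_sq_degree (G := G)
    let T : IrrCharacter G := ⟨fun _ => 1, isIrrCharacter_one⟩
    have hne : T ≠ ⟨χ, h⟩ := fun e => by
      have he : (1 : ℂ) = χ 1 := congrFun (congrArg Subtype.val e) 1
      rw [show χ 1 = (d : ℂ) from h1] at he
      have he' : (d : ℂ) = ((1 : ℕ) : ℂ) := by simpa using he.symm
      exact hd.ne' (Nat.cast_injective he')
    have hs' : ∑ ψ : IrrCharacter G, charDegree (ψ : G → ℂ) ^ 2 = Nat.card G := by
      apply Nat.cast_injective (R := ℂ)
      rw [Nat.cast_sum, ← hs]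
      exact Finset.sum_congr rfl fun ψ _ => by rw [Nat.cast_pow, (irr_degree_spec ψ).1]
    have hle := Finset.sum_le_sum_of_subset (f := fun ψ : IrrCharacter G => charDegree (ψ : G → ℂ) ^ 2)
      (Finset.subset_univ {T, ⟨χ, h⟩})
    rw [Finset.sum_pair hne, hs'] at hle
    have hT : charDegree (T : G → ℂ) = 1 := by simp [T, charDegree]
    simp only [hT, ← hdd, hcod] at hle
    by_contra hge
    have := Nat.mul_le_mul_right d (Nat.le_of_not_lt hge)
    nlinarith
  have hpd : ¬ p ∣ d := fun hdvd => absurd (Nat.le_of_dvd hpos hdvd) (not_le.2 hlt)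
  obtain ⟨P⟩ := Sylow.nonempty (p := p) (G := G)
  have hP : Nat.card (P : Subgroup G) = p := by
    rw [P.card_eq_multiplicity, hcod, Nat.factorization_mul hp.ne_zero hpos.ne', Finsupp.add_apply,
      hp.factorization_self, Nat.factorization_eq_zero_of_not_dvd hpd, pow_one]
  have hPidx : (P : Subgroup G).index = d := by
    have := (P : Subgroup G).card_mul_index
    rw [hP, hcod] at this
    exact Nat.eq_of_mul_eq_mul_left hp.pos this
  have hN : (P : Subgroup G).Normal := by
    have hn1 : Nat.card (Sylow p G) ≡ 1 [MOD p] := card_sylow_modEq_one p G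
    have hn2 : Nat.card (Sylow p G) ≤ d := hPidx ▸ Nat.le_of_dvd (hPidx.symm ▸ hpos) P.card_dvd_index
    have hn3 : Nat.card (Sylow p G) = 1 := by
      have := Nat.ModEq.eq_of_lt_of_lt hn1 (lt_of_le_of_lt hn2 hlt) hp.one_lt
      exact this
    haveI : Subsingleton (Sylow p G) := (Nat.card_eq_one_iff_unique.1 hn3).1
    exact P.normal_of_subsingleton
  refine ⟨P, hN, hP, hpd, ?_⟩
  haveI : IsCyclic (P : Subgroup G) := isCyclic_of_prime_card hP
  have hPC : (P : Subgroup G) ≤ Subgroup.centralizer ((P : Subgroup G) : Set G) := by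
    intro x hx
    rw [Subgroup.mem_centralizer_iff]
    intro y hy
    exact congrArg Subtype.val ((IsCyclic.commutative (α := (P : Subgroup G))).is_comm.comm (⟨y, hy⟩ : (P : Subgroup G)) ⟨x, hx⟩)
  set C := Subgroup.centralizer ((P : Subgroup G) : Set G) with hCdef
  obtain ⟨θ, hθ⟩ := degree_le_index_mul h C
  have hz := card_center_mul_sq_le θ.2
  have hpz : p ∣ Nat.card (Subgroup.center C) := by
    rw [← hP, ← Nat.card_congr (Subgroup.subgroupOfEquivOfLe hPC).toEquiv]
    refine Subgroup.card_dvd_of_le fun y hy => Subgroup.mem_center_iff.2 fun c => ?_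
    exact Subtype.ext (Subgroup.mem_centralizer_iff.1 c.2 (y : G) hy).symm
  set e := charDegree (θ : C → ℂ) with he
  have h1' : p * e ^ 2 ≤ Nat.card C :=
    (Nat.mul_le_mul_right _ (Nat.le_of_dvd Nat.card_pos hpz)).trans hz
  have hkey : Nat.card G ≤ p * e * C.index := by
    rw [hcod, mul_assoc, mul_comm e]
    exact Nat.mul_le_mul_left p hθ
  rw [← C.card_mul_index] at hkey
  have h2' : Nat.card C ≤ p * e :=
    Nat.le_of_mul_le_mul_right hkey (Nat.pos_of_ne_zero Subgroup.index_ne_zero_of_finite)
  have he1 : e ≤ 1 := by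
    have : e ^ 2 ≤ e := Nat.le_of_mul_le_mul_left (h1'.trans h2') hp.pos
    nlinarith
  have hCle : Nat.card C ≤ Nat.card (P : Subgroup G) := by
    rw [hP]
    exact h2'.trans (by nlinarith)
  exact (Subgroup.eq_of_le_of_card_ge hPC hCle).symm

end Cfsg.Agent.CharArith
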