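import Cfsg.Agent.CharArith.Basic
import Mathlib.Algebra.MonoidAlgebra.Basic
import Mathlib.RingTheory.IntegralClosure.IsIntegralClosure.Basic
import Mathlib.LinearAlgebra.Finsupp.VectorSpace
import Mathlib.RingTheory.Finiteness.Basic

/-!
# Central characters are algebraic integers; degrees divide the group order
-/

namespace Cfsg.Agent.CharArith

open Cfsg.Agent.Char
open scoped ComplexConjugate

universe u

variable {G : Type u} [Group G]

/-- The sum of an irreducible character over a conjugacy class is the degree times an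
algebraic integer. -/
theorem isIntegral_classSum [Fintype G] {χ : G → ℂ} (h : IsIrrCharacter G χ) (g : G)
    [DecidablePred fun k : G => IsConj g k] :
    ∃ c : ℂ, IsIntegral ℤ c ∧
      χ 1 * c = ((Finset.univ.filter fun k : G => IsConj g k).card : ℂ) * χ g := by
  classical
  obtain ⟨n, ρ, hρ, rfl⟩ := h
  let f : G → ℂ := fun k => if IsConj g k then 1 else 0
  have hf : IsClassFunction G f := fun x k => if_congr
    ⟨fun e => e.trans (isConj_iff.2 ⟨k, rfl⟩).symm, fun e => e.trans (isConj_iff.2 ⟨k, rfl⟩)⟩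
    rfl rfl
  obtain ⟨c, hc, hc2⟩ := sum_smul_rep_eq_scalar ρ hρ hf
  have hfr : Module.finrank ℂ (Fin n → ℂ) ≠ 0 := by
    intro h0
    apply IsIrr.one_ne_zero (χ := ρ.character) ⟨n, ρ, hρ, rfl⟩
    simp [ρ.char_one, h0]
  haveI : Nontrivial (Fin n → ℂ) := Module.nontrivial_of_finrank_pos (Nat.pos_of_ne_zero hfr)
  refine ⟨c, ?_, ?_⟩
  · let x : MonoidAlgebra ℤ G := ∑ k ∈ Finset.univ.filter (fun k : G => IsConj g k), MonoidAlgebra.of ℤ G k
    have hx : IsIntegral ℤ x := IsIntegral.of_finite ℤ x
    let φ : MonoidAlgebra ℤ G →ₐ[ℤ] Module.End ℂ (Fin n → ℂ) :=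
      MonoidAlgebra.lift ℤ (Module.End ℂ (Fin n → ℂ)) G ρ
    have hφ : φ x = algebraMap ℂ (Module.End ℂ (Fin n → ℂ)) c := by
      rw [Algebra.algebraMap_eq_smul_one, map_sum]
      show _ = c • (LinearMap.id : (Fin n → ℂ) →ₗ[ℂ] (Fin n → ℂ))
      rw [← hc, Finset.sum_filter]
      refine Finset.sum_congr rfl fun k _ => ?_
      simp only [φ, MonoidAlgebra.lift_of, f]
      split_ifs <;> simp
    have h1 : IsIntegral ℤ (algebraMap ℂ (Module.End ℂ (Fin n → ℂ)) c) := hφ ▸ hx.map φ
    exact (isIntegral_algebraMap_iff (algebraMap ℂ (Module.End ℂ (Fin n → ℂ))).injective).1 h1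
  · rw [ρ.char_one, mul_comm, hc2, Finset.card_filter, Nat.cast_sum, Finset.sum_mul]
    refine Finset.sum_congr rfl fun k _ => ?_
    simp only [f]
    split_ifs with hk
    · rw [classFun_isConj (isClassFunction_of_isIrr ⟨n, ρ, hρ, rfl⟩) hk]
      simp
    · simp

/-- The degree of an irreducible character divides the group order. -/
theorem charDegree_dvd_card [Finite G] {χ : G → ℂ} (h : IsIrrCharacter G χ) :
    charDegree χ ∣ Nat.card G := by
  classical
  have := Fintype.ofFinite G
  haveI : Finite (ConjClasses G) := Finite.of_surjective ConjClasses.mk Quotient.mk_surjective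
  letI := Fintype.ofFinite (ConjClasses G)
  choose c hc hce using fun g : G => isIntegral_classSum h g
  refine dvd_of_eq_natCast_mul_isIntegral
    (z := ∑ C : ConjClasses G, c C.out * conj (χ C.out))
    (IsIntegral.sum _ fun C _ => (hc _).mul
      ((IsChar.inv_eq_conj (IsIrr.isCharacter h) C.out) ▸
        IsChar.isIntegral (IsIrr.isCharacter h) C.out⁻¹)) ?_
  rw [← charDegree_spec (IsIrr.isCharacter h), Finset.mul_sum]
  have hn : classInner χ χ = 1 := classInner_irr_self h
  rw [classInner, inv_mul_eq_one₀ (card_ne_zero (G := G))] at hn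
  rw [hn, ← Finset.sum_fiberwise_of_maps_to (g := ConjClasses.mk) (t := Finset.univ)
      (fun _ _ => Finset.mem_univ _) (fun g : G => χ g * conj (χ g))]
  refine Finset.sum_congr rfl fun C _ => ?_
  have hC : ∀ k : G, ConjClasses.mk k = C ↔ IsConj C.out k := by
    intro k
    conv_lhs => rw [← Quotient.out_eq C]
    exact ⟨fun e => (ConjClasses.mk_eq_mk_iff_isConj.1 e).symm,
      fun e => ConjClasses.mk_eq_mk_iff_isConj.2 e.symm⟩
  rw [← mul_assoc, hce C.out, Finset.sum_congr rfl (g := fun _ => χ C.out * conj (χ C.out))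
    (fun k hk => by
      rw [classFun_isConj (isClassFunction_of_isIrr h) ((hC k).1 (Finset.mem_filter.1 hk).2)]),
    Finset.sum_const, nsmul_eq_mul, mul_assoc]
  congr 2
  exact Finset.card_bij' (fun k _ => k) (fun k _ => k)
    (fun k hk => by simpa [hC] using hk) (fun k hk => by simpa [hC] using hk)
    (fun _ _ => rfl) (fun _ _ => rfl)

end Cfsg.Agent.CharArith
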