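import Cfsg.Agent.CharArith.AbelianIndexMain
import Cfsg.Agent.ProjExt.Criteria
import Cfsg.Prelude.Def_DegreeGraph

/-!
The degree graph of a finite solvable group has at most two connected components (Manz).
-/

namespace Cfsg.Agent.DegreeComponents

open Cfsg.Agent Cfsg.Agent.Char
open scoped ComplexConjugate

universe u

variable {G : Type u} [Group G] [Finite G]

/-- `q` is `s` or adjacent to `s`. -/
def Near (G : Type u) [Group G] (s q : ℕ) : Prop := q = s ∨ (Cfsg.degreeGraph G).Adj q s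

theorem near_of_dvd {s q : ℕ} (hs : s.Prime) (hq : q.Prime) {d : ℕ} (hd : d ∈ Cfsg.charDegrees G)
    (h1 : q ∣ d) (h2 : s ∣ d) : Near G s q := by
  by_cases he : q = s
  · exact Or.inl he
  · exact Or.inr ⟨he, hq, hs, d, hd, ((Nat.coprime_primes hq hs).2 he).mul_dvd_of_dvd_of_dvd h1 h2⟩

theorem exists_ratio {K : Subgroup G} [K.Normal] (χ : Cfsg.IrrCharacter G) :
    ∃ (ψ : Cfsg.IrrCharacter K) (k : ℕ), k ∣ K.index ∧
      Cfsg.charDegree (χ : G → ℂ) = k * Cfsg.charDegree (ψ : K → ℂ) ∧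
      ∀ [Fintype K], Cfsg.classInner (fun y : K => (χ : G → ℂ) y) (ψ : K → ℂ) ≠ 0 := by
  letI := Fintype.ofFinite G
  letI := Fintype.ofFinite K
  obtain ⟨ψ, hψ⟩ := IsChar.exists_constituent (isCharacter_res K (IsIrr.isCharacter χ.2)) fun h => by
    have h1 := congrFun h 1
    simp only [OneMemClass.coe_one, Pi.zero_apply, (CharArith.irr_degree_spec χ).1, Nat.cast_eq_zero]
      at h1
    exact (CharArith.irr_degree_spec χ).2.ne' h1
  obtain ⟨k, hk, hkd⟩ := ProjExt.exists_ratio_dvd_index χ.2 ψ.2 hψ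
  rw [(CharArith.irr_degree_spec χ).1, (CharArith.irr_degree_spec ψ).1] at hk
  exact ⟨ψ, k, hkd, by exact_mod_cast hk, fun {inst} => by convert hψ⟩

/-- With `N` of `s`-power index, a character of degree prime to `s` restricts irreducibly. -/
theorem res_irr_of_coprime {N : Subgroup G} [N.Normal] [Fintype N] {s a : ℕ} (hs : s.Prime)
    (hN : N.index = s ^ a) (χ : Cfsg.IrrCharacter G)
    (hχ : ¬ s ∣ Cfsg.charDegree (χ : G → ℂ)) :
    Cfsg.IsIrrCharacter N (fun n : N => (χ : G → ℂ) n) := by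
  obtain ⟨ψ, k, hkd, hk, h0⟩ := exists_ratio (K := N) χ
  obtain ⟨i, -, rfl⟩ := (Nat.dvd_prime_pow hs).1 (hN ▸ hkd)
  have hi : i = 0 := Nat.eq_zero_of_not_pos fun hi => hχ
    (hk ▸ dvd_mul_of_dvd_left (dvd_pow_self s hi.ne') _)
  rw [hi, pow_zero, one_mul] at hk
  rw [funext fun y : N => AbelianIndex.res_eq_of_degree (χ := χ) (ψ := ψ) h0 hk.le y]
  exact ψ.2

theorem charDegree_eq {X : Type u} [Group X] {θ : X → ℂ} {d : ℕ} (h : θ 1 = d) :
    Cfsg.charDegree θ = d := by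
  rw [Cfsg.charDegree, h, Complex.natCast_re, Nat.floor_natCast]

/-- A `p`-group quotient which is not abelian. -/
theorem near_of_pgroup (N : Subgroup G) [N.Normal] {s : ℕ} [hs : Fact s.Prime]
    (hp : IsPGroup s (G ⧸ N)) (hna : commutator (G ⧸ N) ≠ ⊥) :
    ∀ q ∈ Cfsg.degreePrimes G, Near G s q := by
  letI := Fintype.ofFinite G
  letI := Fintype.ofFinite (G ⧸ N)
  letI := Fintype.ofFinite N
  rintro q ⟨hq, d, ⟨χ, rfl⟩, hqd⟩
  by_cases hsd : s ∣ Cfsg.charDegree (χ : G → ℂ)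
  · exact near_of_dvd hs.out hq ⟨χ, rfl⟩ hqd hsd
  obtain ⟨a, ha⟩ := hp.exists_card_eq
  obtain ⟨θ, hθ⟩ := exists_nonlinear (Q := G ⧸ N) hna
  obtain ⟨d, hd0, hd⟩ := IsIrr.degree θ.2
  obtain ⟨i, -, rfl⟩ := (Nat.dvd_prime_pow hs.out).1 (ha ▸ IsIrr.degree_dvd_card θ.2 hd)
  have hi : i ≠ 0 := fun e => hθ (by rw [hd, e, pow_zero, Nat.cast_one])
  have hres := res_irr_of_coprime hs.out
    (show N.index = s ^ a by rw [Subgroup.index_eq_card]; exact ha) χ hsd
  have hirr := isIrr_mul_of_res_irr N χ.2 hres (isIrrCharacter_mk N θ.2) (fun n hn => by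
    show (θ : G ⧸ N → ℂ) (n : G ⧸ N) = (θ : G ⧸ N → ℂ) ((1 : G) : G ⧸ N)
    rw [(QuotientGroup.eq_one_iff n).2 hn, QuotientGroup.mk_one])
  refine near_of_dvd hs.out hq ⟨⟨_, hirr⟩, rfl⟩ ?_ ?_ <;>
    rw [charDegree_eq (d := s ^ i * Cfsg.charDegree (χ : G → ℂ)) (by
      show (θ : G ⧸ N → ℂ) ((1 : G) : G ⧸ N) * (χ : G → ℂ) 1 = _
      rw [QuotientGroup.mk_one, hd, (CharArith.irr_degree_spec χ).1, Nat.cast_mul])]
  · exact dvd_mul_of_dvd_right hqd _
  · exact dvd_mul_of_dvd_left (dvd_pow_self s hi) _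

/-- The Frobenius-type case: `f · ψ(1)` is a degree. -/
theorem index_mul_mem (N : Subgroup G) [N.Normal] (S : Subgroup (G ⧸ N)) [S.Normal]
    [Nontrivial S] (hS : ∀ a ∈ S, ∀ c ∈ S, a * c = c * a)
    (hmove : ∀ (l : S →* ℂˣ) (g : G ⧸ N), g ∉ S →
      (∀ t : S, l ⟨g * t * g⁻¹, Subgroup.Normal.conj_mem inferInstance _ t.2 g⟩ = l t) → l = 1)
    (hab : ∀ u v : G ⧸ N, u * v * u⁻¹ * v⁻¹ ∈ S) (K : Subgroup G) [K.Normal] [Fintype K]
    (hK : S.comap (QuotientGroup.mk' N) = K) {s a : ℕ} (hs : s.Prime)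
    (hNK : N.relIndex K = s ^ a) (ψ : Cfsg.IrrCharacter K)
    (hψ : ¬ s ∣ Cfsg.charDegree (ψ : K → ℂ)) :
    K.index * Cfsg.charDegree (ψ : K → ℂ) ∈ Cfsg.charDegrees G := by
  classical
  letI := Fintype.ofFinite G
  letI := Fintype.ofFinite (N.subgroupOf K)
  have hres := res_irr_of_coprime (G := K) (N := N.subgroupOf K) hs hNK ψ hψ
  let π : K →* S := ((QuotientGroup.mk' N).comp K.subtype).codRestrict S fun y => by
    have h : (y : G) ∈ S.comap (QuotientGroup.mk' N) := by rw [hK]; exact y.2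
    exact h
  have hπ : Function.Surjective π := by
    rintro ⟨t, ht⟩
    obtain ⟨y, rfl⟩ := QuotientGroup.mk'_surjective N t
    exact ⟨⟨y, by rw [← hK]; exact ht⟩, Subtype.ext rfl⟩
  -- the twists are distinct
  have huniq : ∀ l : S →* ℂˣ, (∀ y : K, (ψ : K → ℂ) y * (l (π y) : ℂ) = (ψ : K → ℂ) y) →
      l = 1 := by
    intro l hl
    refine MonoidHom.ext fun t => ?_
    obtain ⟨y, rfl⟩ := hπ t
    by_contra hne
    have hz : ∀ n : N.subgroupOf K, (ψ : K → ℂ) ((n : K) * y) = 0 := fun n => by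
      have h1 := hl ((n : K) * y)
      rw [map_mul π, show π (n : K) = 1 from
        Subtype.ext ((QuotientGroup.eq_one_iff ((n : K) : G)).2 n.2), one_mul] at h1
      by_contra h0
      exact hne (Units.ext ((mul_eq_left₀ h0).1 h1))
    have h2 := avg_normSq_eq_one (N.subgroupOf K) ψ.2 hres y
    rw [Finset.sum_eq_zero (fun n _ => by rw [hz n, zero_mul]), mul_zero] at h2
    exact zero_ne_one h2
  -- the twist by `l`
  obtain ⟨tw, htw⟩ : ∃ tw : (S →* ℂˣ) → K → ℂ,
      ∀ l y, tw l y = (ψ : K → ℂ) y * (l (π y) : ℂ) := ⟨_, fun _ _ => rfl⟩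
  have htw' : ∀ l, Cfsg.IsIrrCharacter K (tw l) := fun l => by
    rw [show tw l = fun y => (ψ : K → ℂ) y * ((l.comp π) y : ℂ) from funext fun y => htw l y]
    exact isIrr_mul_hom ψ.2 (l.comp π)
  have hKle : ∀ l, ∀ g ∈ K, conjFun g (tw l) = tw l := fun l g hg =>
    conjFun_of_mem hg (isClassFunction_of_isIrr (htw' l))
  -- an element outside `K` fixes at most one twist
  have hone : ∀ g ∉ K, ∀ l l', conjFun g (tw l) = tw l → conjFun g (tw l') = tw l' → l = l' := by
    intro g hg l l' h1 h2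
    have hgS : (g : G ⧸ N) ∉ S := fun e => hg (by rw [← hK]; exact e)
    obtain ⟨c, hc⟩ : ∃ c : S → S, ∀ t : S, (c t : G ⧸ N) =
        (g : G ⧸ N) * t * (g : G ⧸ N)⁻¹ :=
      ⟨fun t => ⟨_, Subgroup.Normal.conj_mem inferInstance _ t.2 _⟩, fun t => rfl⟩
    obtain ⟨r, hr⟩ : ∃ r, l * l'⁻¹ = r := ⟨_, rfl⟩
    have hfix : ∀ t : S, r (c t) = r t := fun t => by
      obtain ⟨y, rfl⟩ := hπ t
      by_contra hne
      -- `ψ` vanishes on the whole coset of `y`
      have hz : ∀ n : N.subgroupOf K, (ψ : K → ℂ) ((n : K) * y) = 0 := fun n => by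
        have hπn : π ((n : K) * y) = π y := by
          rw [map_mul π, show π (n : K) = 1 from
            Subtype.ext ((QuotientGroup.eq_one_iff ((n : K) : G)).2 n.2), one_mul]
        obtain ⟨z, hz⟩ : ∃ z, (n : K) * y = z := ⟨_, rfl⟩
        rw [hz] at hπn ⊢
        have e1 := congrFun h1 z
        have e2 := congrFun h2 z
        obtain ⟨w, hw⟩ : ∃ w : K, ⟨g * z * g⁻¹, Subgroup.Normal.conj_mem inferInstance _ z.2 g⟩ = w :=
          ⟨_, rfl⟩
        rw [conjFun_apply, hw, htw, htw] at e1 e2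
        have hπw : π w = c (π y) := by
          rw [← hπn, ← hw]; exact Subtype.ext (hc (π z)).symm
        rw [hπw, hπn] at e1 e2
        by_contra h0
        have h0w : (ψ : K → ℂ) w ≠ 0 := fun h => by
          rw [h, zero_mul] at e1
          exact h0 ((mul_eq_zero.1 e1.symm).resolve_right (l (π y)).ne_zero)
        refine hne (Units.ext ?_)
        rw [← hr]
        simp only [MonoidHom.mul_apply, MonoidHom.inv_apply, Units.val_mul,
          Units.val_inv_eq_inv_val]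
        have hA := (l' (c (π y))).ne_zero
        have hB := (l' (π y)).ne_zero
        field_simp
        refine mul_left_cancel₀ (mul_ne_zero h0 h0w) ?_
        linear_combination ((ψ : K → ℂ) z * (l' (π y) : ℂ)) * e1 -
          ((ψ : K → ℂ) z * (l (π y) : ℂ)) * e2
      have h3 := avg_normSq_eq_one (N.subgroupOf K) ψ.2 hres y
      rw [Finset.sum_eq_zero (fun n _ => by rw [hz n, zero_mul]), mul_zero] at h3
      exact zero_ne_one h3
    have := hmove r (g : G ⧸ N) hgS fun t => by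
      rw [← hfix t]; exact congrArg r (Subtype.ext (hc t).symm)
    refine MonoidHom.ext fun t => ?_
    have := DFunLike.congr_fun this t
    rw [← hr, MonoidHom.mul_apply, MonoidHom.inv_apply, MonoidHom.one_apply, mul_inv_eq_one] at this
    exact this
  have hcommK : ∀ u v : G, u * v * u⁻¹ * v⁻¹ ∈ K := fun u v => by
    rw [← hK]; exact hab (u : G ⧸ N) (v : G ⧸ N)
  -- some twist has trivial stabiliser
  obtain ⟨l, hl⟩ : ∃ l, inertia (tw l) = K := by
    by_contra! hall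
    have hex : ∀ l, ∃ g ∉ K, conjFun g (tw l) = tw l := fun l => by
      by_contra! h1
      exact hall l (le_antisymm (fun g hg => by_contra fun hgK => h1 g hgK (mem_inertia.1 hg))
        fun g hg => mem_inertia.2 (hKle l g hg))
    obtain ⟨lam, hlam⟩ := Char.exists_linear_ne_one (G := S)
      (Group.isSolvable_of_comm fun u v => Subtype.ext (hS u u.2 v v.2))
    refine hlam ?_
    obtain ⟨g, hg, hgf⟩ := hex lam
    obtain ⟨g', hg', hgf'⟩ := hex 1
    have hψg' : conjFun g' (ψ : K → ℂ) = (ψ : K → ℂ) := by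
      have e : tw 1 = (ψ : K → ℂ) := funext fun y => by simp [htw]
      rwa [e] at hgf'
    -- `g` moves the fixed twist of `g'` to a twist fixed by `g'`
    obtain ⟨l', hl'⟩ : ∃ l', conjFun g (tw 1) = tw l' := by
      refine ⟨lam * (⟨⟨fun t => lam ⟨(g : G ⧸ N) * t * (g : G ⧸ N)⁻¹,
        Subgroup.Normal.conj_mem inferInstance _ t.2 _⟩, by
          convert map_one lam using 2
          exact Subtype.ext (by simp)⟩, fun t t' => by
          show lam _ = lam _ * lam _
          rw [← map_mul]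
          exact congrArg lam (Subtype.ext (by simp [mul_assoc]))⟩ : S →* ℂˣ)⁻¹, ?_⟩
      funext y
      have e := congrFun hgf y
      rw [conjFun_apply, htw, htw] at e
      rw [conjFun_apply, htw, htw]
      simp only [MonoidHom.one_apply, Units.val_one, mul_one, MonoidHom.mul_apply,
        MonoidHom.inv_apply, MonoidHom.coe_mk, OneHom.coe_mk, Units.val_mul,
        Units.val_inv_eq_inv_val]
      rw [← mul_assoc, ← e, show π ⟨g * y * g⁻¹, Subgroup.Normal.conj_mem inferInstance _ y.2 g⟩ =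
        ⟨(g : G ⧸ N) * (π y : G ⧸ N) * (g : G ⧸ N)⁻¹,
          Subgroup.Normal.conj_mem inferInstance _ (π y).2 _⟩ from Subtype.ext rfl,
        mul_inv_cancel_right₀ (Units.ne_zero _)]
    have hfix' : conjFun g' (tw l') = tw l' := by
      rw [← hl', conjFun_conjFun,
        show g * g' = (g * g' * g⁻¹ * g'⁻¹) * (g' * g) by group, ← conjFun_conjFun,
        hKle _ _ (hcommK g g'), ← conjFun_conjFun, hgf']
    have hl1 : l' = 1 := hone g' hg' l' 1 hfix' hgf'
    rw [hl1] at hl'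
    exact hone g hg lam 1 hgf hl'
  refine ⟨⟨_, isIrr_indFun_of_inertia (htw' l) hl⟩, charDegree_eq ?_⟩
  show Cfsg.indFun K (tw l) 1 = _
  rw [indFun_apply_one, htw, map_one π, map_one l, Units.val_one, mul_one,
    (CharArith.irr_degree_spec ψ).1, Nat.cast_mul]

theorem exists_two_near [Group.IsSolvable G] :
    ∃ s r : ℕ, ∀ q ∈ Cfsg.degreePrimes G, Near G s q ∨ Near G r q := by
  classical
  letI := Fintype.ofFinite G
  by_cases hna : commutator G = ⊥
  · refine ⟨0, 0, fun q hq => ?_⟩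
    obtain ⟨hqp, d, ⟨χ, rfl⟩, hqd⟩ := hq
    exfalso
    obtain ⟨ψ, k, hkd, hk, -⟩ := exists_ratio (K := (⊥ : Subgroup G)) χ
    have hlin : (χ : G → ℂ) 1 = 1 := by
      by_contra hne
      refine hne (degree_one_of_commutator_le_ker χ.2 fun g hg => ?_)
      rw [hna, Subgroup.mem_bot] at hg
      rw [hg]
    rw [charDegree_eq (d := 1) (by rw [hlin, Nat.cast_one])] at hqd
    exact hqp.not_dvd_one hqd
  obtain ⟨N, ⟨hNn, hN⟩, hmax⟩ := (Set.toFinite
    {N : Subgroup G | N.Normal ∧ ¬ commutator G ≤ N}).exists_maximal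
    ⟨⊥, inferInstance, fun e => hna (le_bot_iff.1 e)⟩
  haveI := hNn
  have hmap : commutator (G ⧸ N) = (commutator G).map (QuotientGroup.mk' N) := by
    rw [commutator_def, commutator_def, Subgroup.map_commutator,
      Subgroup.map_top_of_surjective _ (QuotientGroup.mk'_surjective N)]
  have hS0' : commutator (G ⧸ N) ≠ ⊥ := by
    rw [hmap, Ne, Subgroup.map_eq_bot_iff, QuotientGroup.ker_mk']; exact hN
  have hmin' : ∀ M : Subgroup (G ⧸ N), M.Normal → M ≠ ⊥ → commutator (G ⧸ N) ≤ M := by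
    intro M hM hMb
    by_contra hle
    refine hMb ?_
    have h1 : M.comap (QuotientGroup.mk' N) ≤ N := hmax ⟨hM.comap _, fun e => hle (by
      rw [hmap]; exact Subgroup.map_le_iff_le_comap.2 e)⟩ (by
        intro y hy
        rw [Subgroup.mem_comap, QuotientGroup.mk'_apply, (QuotientGroup.eq_one_iff y).2 hy]
        exact one_mem M)
    rw [Subgroup.eq_bot_iff_forall]
    intro y hy
    obtain ⟨y, rfl⟩ := QuotientGroup.mk'_surjective N y
    exact (QuotientGroup.eq_one_iff y).2 (h1 hy)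
  obtain ⟨S, hSd⟩ : ∃ S, commutator (G ⧸ N) = S := ⟨_, rfl⟩
  rw [hSd] at hS0' hmin'
  have hS0 := hS0'
  have hmin := hmin'
  haveI hSn : S.Normal := hSd ▸ (inferInstance : (commutator (G ⧸ N)).Normal)
  have hS : ∀ a ∈ S, ∀ c ∈ S, a * c = c * a := by
    have hlt := Group.IsSolvable.commutator_lt_of_ne_bot hS0
    have h0 : ⁅S, S⁆ = ⊥ := by
      by_contra hne
      exact not_le_of_gt hlt (hmin _ (Subgroup.commutator_normal _ _) hne)
    intro a ha c hc
    have := Subgroup.commutator_mem_commutator ha hc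
    rw [h0, Subgroup.mem_bot, commutatorElement_eq_one_iff_mul_comm] at this
    exact this
  letI := Fintype.ofFinite (G ⧸ N)
  obtain ⟨s, hs, hsS⟩ := Nat.exists_prime_and_dvd (n := Nat.card S)
    fun e => hS0 ((Subgroup.card_eq_one).1 e)
  haveI := Fact.mk hs
  have hexp : ∀ t ∈ S, t ^ s = 1 := by
    obtain ⟨W, hW⟩ : ∃ W : Subgroup (G ⧸ N), ∀ t, t ∈ W ↔ t ∈ S ∧ t ^ s = 1 := ⟨
      { carrier := {t | t ∈ S ∧ t ^ s = 1}
        one_mem' := ⟨one_mem S, one_pow s⟩
        mul_mem' := fun {x y} hx hy => ⟨mul_mem hx.1 hy.1, by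
          rw [(Commute.mul_pow (hS x hx.1 y hy.1) s), hx.2, hy.2, one_mul]⟩
        inv_mem' := fun {x} hx => ⟨inv_mem hx.1, by rw [inv_pow, hx.2, inv_one]⟩ },
      fun _ => Iff.rfl⟩
    have hWn : W.Normal := ⟨fun w hw k => (hW _).2 ⟨hSn.conj_mem w ((hW w).1 hw).1 k, by
      rw [conj_pow, ((hW w).1 hw).2, mul_one, mul_inv_cancel]⟩⟩
    have hWb : W ≠ ⊥ := fun e => by
      obtain ⟨t, ht⟩ := exists_prime_orderOf_dvd_card' s hsS
      have h1 : (t : G ⧸ N) ∈ W := (hW _).2 ⟨t.2, by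
        have := pow_orderOf_eq_one t
        rw [ht] at this
        simpa using congrArg Subtype.val this⟩
      rw [e, Subgroup.mem_bot] at h1
      rw [← orderOf_eq_one_iff, Subgroup.orderOf_coe, ht] at h1
      exact hs.one_lt.ne' h1
    exact fun t ht => ((hW t).1 (hmin W hWn hWb ht)).2
  by_cases hZ : Subgroup.center (G ⧸ N) ≠ ⊥
  · -- central case: a `p`-group
    have hSZ := hmin _ inferInstance hZ
    have hpow : ∀ x : G ⧸ N, x ^ s ∈ Subgroup.center (G ⧸ N) := fun x =>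
      Subgroup.mem_center_iff.2 fun g => by
        have hc : g * x * g⁻¹ * x⁻¹ ∈ S :=
          hSd ▸ Subgroup.commutator_mem_commutator (Subgroup.mem_top g) (Subgroup.mem_top x)
        have h2 : g * x ^ s * g⁻¹ = x ^ s := by
          rw [← conj_pow, show g * x * g⁻¹ = g * x * g⁻¹ * x⁻¹ * x by group,
            Commute.mul_pow ((Subgroup.mem_center_iff.1 (hSZ hc) x).symm) s, hexp _ hc, one_mul]
        exact mul_inv_eq_iff_eq_mul.1 h2
    have hZs : ∀ z ∈ Subgroup.center (G ⧸ N), ∀ t : ℕ, t.Prime → t ∣ orderOf z → t = s := by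
      intro z hz t ht htd
      obtain ⟨w, hw⟩ : ∃ w, z ^ (orderOf z / t) = w := ⟨_, rfl⟩
      have hwo : orderOf w = t := by
        rw [← hw]; exact orderOf_pow_orderOf_div (orderOf_pos z).ne' htd
      have hwn : (Subgroup.zpowers w).Normal := ⟨fun v hv k => by
        have : v ∈ Subgroup.center (G ⧸ N) :=
          (Subgroup.zpowers_le.2 (hw ▸ pow_mem hz _)) hv
        rw [Subgroup.mem_center_iff.1 this k, mul_inv_cancel_right]; exact hv⟩
      have hle := hmin _ hwn (fun e => by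
        have h1 : w ∈ (⊥ : Subgroup (G ⧸ N)) := e ▸ Subgroup.mem_zpowers w
        rw [Subgroup.mem_bot] at h1
        rw [h1, orderOf_one] at hwo
        exact ht.one_lt.ne hwo)
      have hd := Subgroup.card_dvd_of_le hle
      rw [Nat.card_zpowers, hwo] at hd
      exact ((Nat.prime_dvd_prime_iff_eq hs ht).1 (hsS.trans hd)).symm
    have hp : IsPGroup s (G ⧸ N) := fun x => by
      refine ⟨(orderOf (x ^ s)).primeFactorsList.length + 1, ?_⟩
      rw [pow_succ', pow_mul, ← Nat.eq_prime_pow_of_unique_prime_dvd (p := s)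
        (orderOf_pos (x ^ s)).ne' (fun {t} ht htd => hZs _ (hpow x) t ht htd), pow_orderOf_eq_one]
    refine ⟨s, s, fun q hq => Or.inl (near_of_pgroup N hp ?_ q hq)⟩
    rw [hSd]; exact hS0
  rw [not_not] at hZ
  have hcomm : ∀ u v : G ⧸ N, u * v * u⁻¹ * v⁻¹ ∈ S := fun u v =>
    hSd ▸ Subgroup.commutator_mem_commutator (Subgroup.mem_top u) (Subgroup.mem_top v)
  -- outside `centralizer S` the centralisers in `centralizer S` are trivial
  have hSY : S ≤ Subgroup.centralizer (S : Set (G ⧸ N)) := fun s hs =>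
    Subgroup.mem_centralizer_iff.2 fun t ht => hS t ht s hs
  have hfree0 : ∀ g ∉ Subgroup.centralizer (S : Set (G ⧸ N)), ∀ y,
      y ∈ Subgroup.centralizer (S : Set (G ⧸ N)) → y * g = g * y → y = 1 := by
    intro g hg y hy hyg
    obtain ⟨W, hW⟩ : ∃ W : Subgroup (G ⧸ N),
        Subgroup.centralizer (S : Set (G ⧸ N)) ⊓ Subgroup.centralizer ({g} : Set (G ⧸ N)) = W :=
      ⟨_, rfl⟩
    have hWn : W.Normal := ⟨fun w hw k => by
      rw [← hW, Subgroup.mem_inf] at hw ⊢
      refine ⟨(inferInstance : (Subgroup.centralizer (S : Set (G ⧸ N))).Normal).conj_mem w hw.1 k, ?_⟩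
      rw [Subgroup.mem_centralizer_singleton_iff]
      have h1 : w * g = g * w := Subgroup.mem_centralizer_singleton_iff.1 hw.2
      -- `k⁻¹ g k = g s`
      obtain ⟨s, hs, hgs⟩ : ∃ s ∈ S, k⁻¹ * g * k = g * s := by
        refine ⟨g⁻¹ * k⁻¹ * g * k, ?_, by group⟩
        have := hcomm g⁻¹ k⁻¹
        simpa [mul_assoc] using this
      have h2 : w * (g * s) = (g * s) * w := by
        rw [← mul_assoc, h1, mul_assoc, ← Subgroup.mem_centralizer_iff.1 hw.1 s hs, ← mul_assoc]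
      rw [← hgs] at h2
      have e := congrArg (fun t => k * t * k⁻¹) h2
      simpa [mul_assoc] using e⟩
    by_contra hy1
    have hWb : W ≠ ⊥ := fun e => hy1 (Subgroup.mem_bot.1 (e ▸ (hW ▸ Subgroup.mem_inf.2
      ⟨hy, Subgroup.mem_centralizer_singleton_iff.2 hyg⟩)))
    refine hg (Subgroup.mem_centralizer_iff.2 fun s hs => ?_)
    have := hmin W hWn hWb hs
    rw [← hW] at this
    exact Subgroup.mem_centralizer_singleton_iff.1 this.2
  obtain ⟨g₀, hg₀⟩ : ∃ g, g ∉ Subgroup.centralizer (S : Set (G ⧸ N)) := by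
    by_contra! hall
    obtain ⟨s, hs, hs1⟩ := (Subgroup.ne_bot_iff_exists_ne_one).1 hS0 |> fun ⟨⟨s, hs⟩, h1⟩ =>
      (⟨s, hs, fun e => h1 (Subtype.ext e)⟩ : ∃ s, s ∈ S ∧ s ≠ 1)
    refine hs1 (Subgroup.mem_bot.1 (hZ ▸ Subgroup.mem_center_iff.2 fun g => ?_))
    exact (Subgroup.mem_centralizer_iff.1 (hall g) s hs).symm
  have hcent : Subgroup.centralizer (S : Set (G ⧸ N)) = S := by
    refine (Subgroup.eq_of_le_of_card_ge hSY ?_).symm
    refine Nat.card_le_card_of_injective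
      (fun y : Subgroup.centralizer (S : Set (G ⧸ N)) =>
        (⟨g₀ * (y : G ⧸ N) * g₀⁻¹ * (y : G ⧸ N)⁻¹, hcomm _ _⟩ : S)) fun y y' e => Subtype.ext ?_
    have e' : g₀ * (y : G ⧸ N) * g₀⁻¹ * (y : G ⧸ N)⁻¹ = g₀ * y' * g₀⁻¹ * (y' : G ⧸ N)⁻¹ :=
      congrArg Subtype.val e
    have h1 := hfree0 g₀ hg₀ ((y' : G ⧸ N)⁻¹ * y)
      (mul_mem (inv_mem y'.2) y.2) (by
        have e2 : (y : G ⧸ N) * g₀⁻¹ * (y : G ⧸ N)⁻¹ = y' * g₀⁻¹ * (y' : G ⧸ N)⁻¹ := by
          have := congrArg (fun t => g₀⁻¹ * t) e'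
          simpa [mul_assoc] using this
        have e3 := congrArg (fun t => (y' : G ⧸ N)⁻¹ * t⁻¹ * y) e2
        simpa [mul_assoc] using e3)
    exact (inv_mul_eq_one.1 h1).symm
  have hfree : ∀ g ∉ S, ∀ y ∈ S, y * g = g * y → y = 1 := fun g hg y hy =>
    hfree0 g (hcent.symm ▸ hg) y (hSY hy)
  -- the linear characters of `S` are permuted freely
  letI := Fintype.ofFinite S
  have hmove : ∀ (l : S →* ℂˣ) (g : G ⧸ N), g ∉ S →
      (∀ s : S, l ⟨g * s * g⁻¹, hSn.conj_mem _ s.2 g⟩ = l s) → l = 1 := by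
    intro l g hg hfix
    let c : S → S := fun s => ⟨g * s * g⁻¹ * (s : G ⧸ N)⁻¹, hcomm _ _⟩
    have hinj : Function.Injective c := fun s t e => by
      have e' := congrArg Subtype.val e
      simp only [c] at e'
      have h1 := hfree g hg ((t : G ⧸ N)⁻¹ * s) (mul_mem (inv_mem t.2) s.2) (by
        have e2 : (s : G ⧸ N) * g⁻¹ * (s : G ⧸ N)⁻¹ = t * g⁻¹ * (t : G ⧸ N)⁻¹ := by
          have := congrArg (fun u => g⁻¹ * u) e'
          simpa [mul_assoc] using this
        have e3 := congrArg (fun u => (t : G ⧸ N)⁻¹ * u⁻¹ * s) e2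
        simpa [mul_assoc] using e3)
      exact Subtype.ext (inv_mul_eq_one.1 h1).symm
    refine MonoidHom.ext fun s => ?_
    obtain ⟨t, rfl⟩ := Finite.surjective_of_injective hinj s
    have e : c t = (⟨g * t * g⁻¹, hSn.conj_mem _ t.2 g⟩ : S) * t⁻¹ := Subtype.ext rfl
    rw [e, map_mul, map_inv, hfix, mul_inv_cancel, MonoidHom.one_apply]
  haveI : Nontrivial S := (Subgroup.nontrivial_iff_ne_bot S).2 hS0
  -- the graph
  obtain ⟨K, hK⟩ : ∃ K : Subgroup G, S.comap (QuotientGroup.mk' N) = K := ⟨_, rfl⟩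
  haveI hKn : K.Normal := hK ▸ hSn.comap _
  letI := Fintype.ofFinite K
  have hKi : K.index = S.index := by
    rw [← hK, Subgroup.index_comap_of_surjective _ (QuotientGroup.mk'_surjective N)]
  have hKi1 : K.index ≠ 1 := fun e => hg₀ (hSY (by
    rw [(Subgroup.index_eq_one (H := S)).1 (hKi ▸ e)]; exact Subgroup.mem_top _))
  have hpS : IsPGroup s S := fun t => ⟨1, by
    rw [pow_one]; exact Subtype.ext (hexp t t.2)⟩
  obtain ⟨a, ha⟩ := hpS.exists_card_eq
  have hNK : N.relIndex K = s ^ a := by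
    have hle : N ≤ K := fun y hy => by
      rw [← hK, Subgroup.mem_comap, QuotientGroup.mk'_apply, (QuotientGroup.eq_one_iff y).2 hy]
      exact one_mem S
    refine Nat.eq_of_mul_eq_mul_right (Nat.pos_of_ne_zero K.index_ne_zero_of_finite) ?_
    rw [Subgroup.relIndex_mul_index hle, hKi, ← ha, S.card_mul_index, Subgroup.index_eq_card]
  refine ⟨s, K.index.minFac, fun q ⟨hq, d, ⟨χ, hχ⟩, hqd⟩ => ?_⟩
  subst hχ
  have hmem := index_mul_mem N S hS hmove hcomm K hK hs hNK
  obtain ⟨ψ, k, hkd, hk, -⟩ := exists_ratio (K := K) χ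
  rcases hq.dvd_mul.1 (hk ▸ hqd) with hqk | hqψ
  · have h1 := hmem ⟨_, isIrrCharacter_one⟩ (by
      rw [charDegree_eq (d := 1) (by simp)]
      exact hs.not_dvd_one)
    rw [charDegree_eq (d := 1) (by simp), mul_one] at h1
    exact Or.inr (near_of_dvd (Nat.minFac_prime hKi1) hq h1 (hqk.trans hkd)
      (Nat.minFac_dvd _))
  by_cases hsψ : s ∣ Cfsg.charDegree (ψ : K → ℂ)
  · exact Or.inl (near_of_dvd hs hq ⟨χ, rfl⟩ hqd (hk ▸ dvd_mul_of_dvd_right hsψ k))
  · exact Or.inr (near_of_dvd (Nat.minFac_prime hKi1) hq (hmem ψ hsψ)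
      (dvd_mul_of_dvd_right hqψ _) (dvd_mul_of_dvd_left (Nat.minFac_dvd _) _))

theorem card_components_le_two [Group.IsSolvable G] :
    Nat.card ((Cfsg.degreeGraph G).induce (Cfsg.degreePrimes G)).ConnectedComponent ≤ 2 := by
  classical
  obtain ⟨s, r, h⟩ := exists_two_near (G := G)
  have hnear : ∀ (x : ℕ) (q : Cfsg.degreePrimes G), Near G x q → ∃ hx : x ∈ Cfsg.degreePrimes G,
      ((Cfsg.degreeGraph G).induce (Cfsg.degreePrimes G)).connectedComponentMk q =
        ((Cfsg.degreeGraph G).induce (Cfsg.degreePrimes G)).connectedComponentMk ⟨x, hx⟩ := by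
    rintro x ⟨q, hq⟩ (rfl | hadj)
    · exact ⟨hq, rfl⟩
    · obtain ⟨-, -, hx, d, hd, hdd⟩ := id hadj
      refine ⟨⟨hx, d, hd, dvd_trans (dvd_mul_left _ _) hdd⟩, ?_⟩
      exact SimpleGraph.ConnectedComponent.eq.2 (SimpleGraph.Adj.reachable hadj)
  obtain ⟨F, hF⟩ : ∃ F : ((Cfsg.degreeGraph G).induce (Cfsg.degreePrimes G)).ConnectedComponent →
      Fin 2, Function.Injective F := by
    refine ⟨fun c => if ∃ hx : s ∈ Cfsg.degreePrimes G,
      c = ((Cfsg.degreeGraph G).induce _).connectedComponentMk ⟨s, hx⟩ then 0 else 1, ?_⟩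
    intro c c' e
    dsimp only at e
    induction c using SimpleGraph.ConnectedComponent.ind with | _ q
    induction c' using SimpleGraph.ConnectedComponent.ind with | _ q'
    split_ifs at e with h1 h2 h2
    · obtain ⟨_, e1⟩ := h1
      obtain ⟨_, e2⟩ := h2
      exact e1.trans e2.symm
    · exact absurd e (by decide)
    · exact absurd e (by decide)
    · obtain ⟨_, e1⟩ := hnear r q ((h q q.2).resolve_left fun hn => h1 (hnear s q hn))
      obtain ⟨_, e2⟩ := hnear r q' ((h q' q'.2).resolve_left fun hn => h2 (hnear s q' hn))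
      exact e1.trans e2.symm
  simpa using Nat.card_le_card_of_injective F hF

end Cfsg.Agent.DegreeComponents
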