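import Cfsg.Agent.CharArith.Basic
import Cfsg.Agent.Char.Gallagher
import Cfsg.Agent.Char.Clifford
import Cfsg.Agent.Char.Linear
import Cfsg.Agent.Char.DerivedPrime
import Cfsg.Agent.Char.UniqueDivisible
import Cfsg.Agent.Char.NormalAbelianSylow
import Mathlib.GroupTheory.GroupAction.CardCommute
import Mathlib.GroupTheory.Solvable

/-!
An abelian subgroup of index at most `(b!)²`, `b` the largest character degree (Isaacs--Passman).
-/

namespace Cfsg.Agent.AbelianIndex

open Cfsg.Agent Cfsg.Agent.Char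
open scoped ComplexConjugate

universe u

/-- All irreducible degrees are at most `b`. -/
def DegLE (G : Type u) [Group G] (b : ℕ) : Prop :=
  ∀ χ : Cfsg.IrrCharacter G, Cfsg.charDegree (χ : G → ℂ) ≤ b

variable {G : Type u} [Group G] [Finite G] {b : ℕ}

theorem degLE_quotient (h : DegLE G b) (N : Subgroup G) [N.Normal] : DegLE (G ⧸ N) b := fun η => by
  have := h ⟨_, isIrrCharacter_mk N η.2⟩
  simpa [Cfsg.charDegree] using this

theorem exists_over_degree (h : DegLE G b) (H : Subgroup G) [Fintype H] (ψ : Cfsg.IrrCharacter H) :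
    ∃ χ : Cfsg.IrrCharacter G, Cfsg.classInner (fun y : H => (χ : G → ℂ) y) (ψ : H → ℂ) ≠ 0 ∧
      Cfsg.charDegree (ψ : H → ℂ) ≤ Cfsg.charDegree (χ : G → ℂ) ∧
      Cfsg.charDegree (χ : G → ℂ) ≤ b := by
  letI := Fintype.ofFinite G
  obtain ⟨χ, hχ⟩ := Char.exists_over H ψ
  refine ⟨χ, hχ, ?_, h χ⟩
  have h1 := IsChar.constituent_degree_le (isCharacter_res H (IsIrr.isCharacter χ.2)) ψ.2 hχ
  simp only [OneMemClass.coe_one, (CharArith.irr_degree_spec χ).1, (CharArith.irr_degree_spec ψ).1,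
    Complex.natCast_re] at h1
  exact_mod_cast h1

theorem degLE_subgroup (h : DegLE G b) (H : Subgroup G) : DegLE H b := fun ψ => by
  letI := Fintype.ofFinite H
  obtain ⟨χ, -, h1, h2⟩ := exists_over_degree h H ψ
  exact h1.trans h2

/-- A constituent of the same degree is the whole restriction. -/
theorem res_eq_of_degree {H : Subgroup G} [Fintype H] {χ : Cfsg.IrrCharacter G}
    {ψ : Cfsg.IrrCharacter H}
    (h0 : Cfsg.classInner (fun y : H => (χ : G → ℂ) y) (ψ : H → ℂ) ≠ 0)
    (h : Cfsg.charDegree (χ : G → ℂ) ≤ Cfsg.charDegree (ψ : H → ℂ)) (y : H) :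
    (χ : G → ℂ) y = (ψ : H → ℂ) y := by
  have hc := isCharacter_res H (IsIrr.isCharacter χ.2)
  have hsub := IsChar.sub_constituent hc ψ.2 h0
  obtain ⟨d, hd⟩ := IsChar.degree hsub
  have h3 := IsChar.norm_le hsub y
  simp only [Pi.sub_apply, OneMemClass.coe_one, (CharArith.irr_degree_spec χ).1,
    (CharArith.irr_degree_spec ψ).1] at hd h3
  have hd' : ((d + Cfsg.charDegree (ψ : H → ℂ) : ℕ) : ℂ) = (Cfsg.charDegree (χ : G → ℂ) : ℂ) := by
    push_cast; linear_combination -hd
  rw [Nat.cast_inj] at hd'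
  rw [hd, show d = 0 by omega] at h3
  simp only [Nat.cast_zero, Complex.zero_re, norm_le_zero_iff] at h3
  exact sub_eq_zero.1 h3

theorem exists_ext (h : DegLE G b) {H : Subgroup G} [Fintype H] (ψ : Cfsg.IrrCharacter H)
    (hψ : Cfsg.charDegree (ψ : H → ℂ) = b) :
    ∃ χ : Cfsg.IrrCharacter G, Cfsg.charDegree (χ : G → ℂ) = b ∧
      ∀ y : H, (χ : G → ℂ) y = (ψ : H → ℂ) y := by
  obtain ⟨χ, h0, h1, h2⟩ := exists_over_degree h H ψ
  exact ⟨χ, le_antisymm h2 (hψ ▸ h1), res_eq_of_degree h0 (hψ.symm ▸ h2)⟩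

/-- Under a non-linear character of a quotient the degrees of the normal subgroup halve. -/
theorem degLE_half (h : DegLE G b) (N : Subgroup G) [N.Normal] {θ : G → ℂ}
    (hθ : Cfsg.IsIrrCharacter G θ) (hθN : ∀ n ∈ N, θ n = θ 1) (hθ1 : θ 1 ≠ 1) :
    DegLE N (b / 2) := by
  intro φ
  letI := Fintype.ofFinite G
  letI := Fintype.ofFinite N
  obtain ⟨χ, h0, h1, h2⟩ := exists_over_degree h N φ
  obtain ⟨e, he⟩ := classInner_isCharacter_eq_natCast
    (isCharacter_res N (IsIrr.isCharacter χ.2)) (IsIrr.isCharacter φ.2)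
  have hcl := degree_eq_of_clifford χ.2 φ.2 h0
  rw [he, (CharArith.irr_degree_spec χ).1, (CharArith.irr_degree_spec φ).1] at hcl
  have hcl' : Cfsg.charDegree (χ : G → ℂ) =
      e * (inertia (φ : N → ℂ)).index * Cfsg.charDegree (φ : N → ℂ) := by exact_mod_cast hcl
  rw [Nat.le_div_iff_mul_le two_pos]
  by_contra hlt
  rw [not_le] at hlt
  have het : e * (inertia (φ : N → ℂ)).index = 1 := by
    have hpos : 0 < e * (inertia (φ : N → ℂ)).index := Nat.pos_of_ne_zero fun h3 => by
      rw [h3, zero_mul] at hcl'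
      exact (CharArith.irr_degree_spec χ).2.ne' hcl'
    by_contra hne
    have h3 : 2 * Cfsg.charDegree (φ : N → ℂ) ≤ Cfsg.charDegree (χ : G → ℂ) := by
      rw [hcl']; exact Nat.mul_le_mul_right _ (by omega)
    omega
  rw [het, one_mul] at hcl'
  have hres := res_eq_of_degree h0 hcl'.le
  have hirr : Cfsg.IsIrrCharacter N (fun n : N => (χ : G → ℂ) n) := by rw [funext hres]; exact φ.2
  obtain ⟨d, hd0, hd⟩ := IsIrr.degree hθ
  have h4 := h ⟨_, isIrr_mul_of_res_irr N χ.2 hirr hθ hθN⟩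
  have h5 : Cfsg.charDegree (θ * (χ : G → ℂ)) = d * Cfsg.charDegree (χ : G → ℂ) := by
    rw [Cfsg.charDegree, Pi.mul_apply, hd, (CharArith.irr_degree_spec χ).1, ← Nat.cast_mul,
      Complex.natCast_re, Nat.floor_natCast]
  change Cfsg.charDegree (θ * (χ : G → ℂ)) ≤ b at h4
  rw [h5, hcl'] at h4
  have hd2 : 2 ≤ d := by
    rcases Nat.lt_or_ge d 2 with hlt2 | hge
    · exfalso
      have : d = 1 := by omega
      exact hθ1 (by rw [hd, this, Nat.cast_one])
    · exact hge
  have := Nat.mul_le_mul_right (Cfsg.charDegree (φ : N → ℂ)) hd2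
  omega

/-- A maximal-degree character irreducible on `H` vanishes on `H` outside the normal core. -/
theorem eq_zero_of_max (h : DegLE G b) (hb : 0 < b) {H : Subgroup G} [Fintype H]
    (χ : Cfsg.IrrCharacter G)
    (hχ : Cfsg.charDegree (χ : G → ℂ) = b)
    (hirr : Cfsg.IsIrrCharacter H (fun y : H => (χ : G → ℂ) y)) {y : G} (hy : y ∈ H)
    (hyn : y ∉ H.normalCore) : (χ : G → ℂ) y = 0 := by
  classical
  letI := Fintype.ofFinite G
  set ψ : Cfsg.IrrCharacter H := ⟨_, hirr⟩ with hψ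
  have hψd : Cfsg.charDegree (ψ : H → ℂ) = b := by
    rw [← hχ]; simp [Cfsg.charDegree, hψ]
  have hind := isCharacter_indFun H (IsIrr.isCharacter ψ.2)
  obtain ⟨c, hc, hexp, -⟩ := IsChar.exists_mult hind
  have hξ : ∀ ξ : Cfsg.IrrCharacter G, c ξ ≠ 0 → (ξ : G → ℂ) y = (χ : G → ℂ) y ∧ (ξ : G → ℂ) 1 = b := by
    intro ξ hξ0
    have h0 : Cfsg.classInner (fun z : H => (ξ : G → ℂ) z) (ψ : H → ℂ) ≠ 0 := by
      rw [← classInner_conj_symm, ← classInner_indFun_left H (ψ : H → ℂ) (isClassFunction_of_isIrr ξ.2),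
        hc, Complex.conj_natCast]
      exact_mod_cast hξ0
    have h1 := res_eq_of_degree h0 (hψd.symm ▸ h ξ)
    have e1 := h1 ⟨y, hy⟩
    have e2 := h1 1
    simp only [hψ] at e1 e2
    refine ⟨e1, ?_⟩
    rw [OneMemClass.coe_one] at e2
    rw [e2, (CharArith.irr_degree_spec χ).1, hχ]
  have hbC : (b : ℂ) ≠ 0 := Nat.cast_ne_zero.2 hb.ne'
  have hsum : ∑ ξ, (c ξ : ℂ) = (H.index : ℂ) := by
    have h1 := congrFun hexp 1
    rw [indFun_apply_one] at h1
    simp only [Finset.sum_apply, Pi.smul_apply, smul_eq_mul] at h1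
    rw [Finset.sum_congr rfl (g := fun ξ => (c ξ : ℂ) * b) (fun ξ _ => by
      by_cases h0 : c ξ = 0
      · simp [h0]
      · rw [(hξ ξ h0).2]), ← Finset.sum_mul, (CharArith.irr_degree_spec ψ).1, hψd] at h1
    exact (mul_right_cancel₀ hbC h1).symm
  have hy1 : Cfsg.indFun H (ψ : H → ℂ) y = (H.index : ℂ) * (χ : G → ℂ) y := by
    rw [congrFun hexp y]
    simp only [Finset.sum_apply, Pi.smul_apply, smul_eq_mul]
    rw [← hsum, Finset.sum_mul]
    refine Finset.sum_congr rfl fun ξ _ => ?_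
    by_cases h0 : c ξ = 0
    · simp [h0]
    · rw [(hξ ξ h0).1]
  by_contra hne
  have hcount : Cfsg.indFun H (ψ : H → ℂ) y = (Nat.card H : ℂ)⁻¹ *
      ((Finset.univ.filter fun g : G => g⁻¹ * y * g ∈ H).card : ℂ) * (χ : G → ℂ) y := by
    rw [indFun_apply, mul_assoc]
    congr 1
    rw [← Finset.sum_filter_add_sum_filter_not Finset.univ (fun g : G => g⁻¹ * y * g ∈ H),
      Finset.sum_eq_zero (s := Finset.univ.filter fun g : G => ¬ g⁻¹ * y * g ∈ H) (fun g hg => by
        rw [extendByZero_of_not_mem H _ (Finset.mem_filter.1 hg).2]), add_zero]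
    rw [Finset.sum_congr rfl (g := fun _ => (χ : G → ℂ) y) (fun g hg => by
      rw [extendByZero_of_mem H _ (Finset.mem_filter.1 hg).2]
      simpa using isClassFunction_of_isIrr χ.2 y g⁻¹), Finset.sum_const, nsmul_eq_mul]
  rw [hy1] at hcount
  have hH : (Nat.card H : ℂ) ≠ 0 := Nat.cast_ne_zero.2 Nat.card_pos.ne'
  have h2 := mul_right_cancel₀ hne hcount
  rw [eq_inv_mul_iff_mul_eq₀ hH, ← Nat.cast_mul, Nat.cast_inj, Subgroup.card_mul_index,
    Nat.card_eq_fintype_card] at h2
  have h3 : Finset.univ.filter (fun g : G => g⁻¹ * y * g ∈ H) = Finset.univ :=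
    Finset.eq_univ_of_card _ h2.symm
  refine hyn fun g => ?_
  have h4 : g⁻¹ ∈ Finset.univ.filter (fun g : G => g⁻¹ * y * g ∈ H) := by
    rw [h3]; exact Finset.mem_univ _
  simpa using (Finset.mem_filter.1 h4).2

/-- If `χ` is irreducible on `H` and vanishes on `H` outside `N`, then `[H : N] ≤ χ(1)²`. -/
theorem relIndex_le_of_vanish {H N : Subgroup G} [Fintype H] (hNH : N ≤ H)
    (χ : Cfsg.IrrCharacter G) (hirr : Cfsg.IsIrrCharacter H (fun y : H => (χ : G → ℂ) y))
    (hv : ∀ y ∈ H, y ∉ N → (χ : G → ℂ) y = 0) :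
    N.relIndex H ≤ Cfsg.charDegree (χ : G → ℂ) ^ 2 := by
  classical
  letI := Fintype.ofFinite N
  have h1 := classInner_irr_self hirr
  rw [Cfsg.classInner, inv_mul_eq_iff_eq_mul₀ (Nat.cast_ne_zero.2 Nat.card_pos.ne'), mul_one] at h1
  have h2 : ∑ y : H, (χ : G → ℂ) y * conj ((χ : G → ℂ) y) =
      ∑ n : N, (χ : G → ℂ) n * conj ((χ : G → ℂ) n) := by
    refine (Finset.sum_of_injOn (Subgroup.inclusion hNH)
      (fun a _ b _ h => Subgroup.inclusion_injective hNH h) (fun a _ => Finset.mem_univ _)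
      (fun y _ hy => ?_) fun n _ => rfl).symm
    rw [hv y y.2 fun hyN => hy ⟨⟨_, hyN⟩, Finset.mem_coe.2 (Finset.mem_univ _), Subtype.ext rfl⟩,
      zero_mul]
  rw [h2] at h1
  have h3 : (Nat.card H : ℝ) ≤ (Nat.card N : ℝ) * (Cfsg.charDegree (χ : G → ℂ) : ℝ) ^ 2 := by
    have e := congrArg Complex.re h1
    rw [Complex.natCast_re, Complex.re_sum] at e
    rw [← e, Nat.card_eq_fintype_card (α := N), ← nsmul_eq_mul, ← Finset.card_univ, ← Finset.sum_const]
    refine Finset.sum_le_sum fun n _ => ?_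
    rw [Complex.mul_conj, Complex.ofReal_re, Complex.normSq_eq_norm_sq]
    have h4 := IsChar.norm_le (IsIrr.isCharacter χ.2) (n : G)
    rw [(CharArith.irr_degree_spec χ).1, Complex.natCast_re] at h4
    exact pow_le_pow_left₀ (norm_nonneg _) h4 2
  have h5 : Nat.card H = Nat.card N * N.relIndex H := by
    rw [← Nat.card_congr (Subgroup.subgroupOfEquivOfLe hNH).toEquiv]
    exact ((N.subgroupOf H).card_mul_index).symm
  rw [h5] at h3
  push_cast at h3
  have h6 := le_of_mul_le_mul_left h3 (by exact_mod_cast Nat.card_pos)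
  exact_mod_cast h6

/-- Some non-identity element has a class of size at most `b²`. -/
theorem exists_small_class {X : Type u} [Group X] [Finite X] [Nontrivial X] (h : DegLE X b) :
    ∃ x : X, x ≠ 1 ∧ (Subgroup.centralizer ({x} : Set X)).index ≤ b ^ 2 := by
  classical
  letI := Fintype.ofFinite X
  by_contra! hall
  have hpairs : Nat.card {q : X × X // Commute q.1 q.2} =
      ∑ x : X, Nat.card (Subgroup.centralizer ({x} : Set X)) := by
    rw [Nat.card_congr (Equiv.subtypeProdEquivSigmaSubtype fun x y : X => Commute x y), Nat.card_sigma]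
    refine Finset.sum_congr rfl fun x _ => Nat.card_congr (Equiv.subtypeEquivRight fun y => ?_)
    rw [Subgroup.mem_centralizer_singleton_iff]
    exact ⟨fun h => h.symm, fun h => h.symm⟩
  rw [card_comm_eq_card_conjClasses_mul_card] at hpairs
  have hdeg : Nat.card X ≤ 1 + (Nat.card (ConjClasses X) - 1) * b ^ 2 := by
    rw [← card_irrCharacter, Nat.card_eq_fintype_card (α := Cfsg.IrrCharacter X)]
    have hsq := sum_sq_degree (G := X)
    rw [Finset.sum_congr rfl (g := fun χ : Cfsg.IrrCharacter X =>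
      ((Cfsg.charDegree (χ : X → ℂ) ^ 2 : ℕ) : ℂ)) (fun χ _ => by
        rw [(CharArith.irr_degree_spec χ).1]; push_cast; rfl), ← Nat.cast_sum, Nat.cast_inj] at hsq
    rw [← hsq, Finset.sum_eq_add_sum_sdiff_singleton_of_mem
      (Finset.mem_univ (⟨_, isIrrCharacter_one⟩ : Cfsg.IrrCharacter X))]
    refine Nat.add_le_add (le_of_eq ?_) ?_
    · simp [Cfsg.charDegree]
    · refine (Finset.sum_le_card_nsmul _ _ (b ^ 2) fun χ _ => Nat.pow_le_pow_left (h χ) 2).trans ?_
      rw [smul_eq_mul, Finset.card_sdiff_of_subset (Finset.subset_univ _), Finset.card_univ,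
        Finset.card_singleton]
  have hk : 2 ≤ Nat.card (ConjClasses X) := by
    obtain ⟨x, hx⟩ := exists_ne (1 : X)
    rw [Nat.card_eq_fintype_card]
    exact Fintype.one_lt_card_iff.2 ⟨ConjClasses.mk x, ConjClasses.mk 1, fun e => hx (by
      simpa using ConjClasses.mk_eq_mk_iff_isConj.1 e)⟩
  have h1 : b ^ 2 * (∑ x : X, Nat.card (Subgroup.centralizer ({x} : Set X))) <
      b ^ 2 * Nat.card X + (Nat.card X - 1) * Nat.card X := by
    rw [← Finset.sum_erase_add _ _ (Finset.mem_univ (1 : X)), Nat.mul_add, add_comm]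
    have h1c : Nat.card (Subgroup.centralizer ({(1 : X)} : Set X)) = Nat.card X := by
      rw [show Subgroup.centralizer ({(1 : X)} : Set X) = ⊤ from eq_top_iff.2 fun y _ =>
        Subgroup.mem_centralizer_singleton_iff.2 (by simp), Subgroup.card_top]
    rw [h1c]
    refine Nat.add_lt_add_left ?_ _
    rw [Finset.mul_sum]
    refine (Finset.sum_lt_sum_of_nonempty (g := fun _ => Nat.card X) ?_ fun x hx => ?_).trans_le ?_
    · obtain ⟨x, hx⟩ := exists_ne (1 : X)
      exact ⟨x, Finset.mem_erase.2 ⟨hx, Finset.mem_univ _⟩⟩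
    · calc b ^ 2 * Nat.card (Subgroup.centralizer ({x} : Set X))
          < (Subgroup.centralizer ({x} : Set X)).index *
              Nat.card (Subgroup.centralizer ({x} : Set X)) :=
            Nat.mul_lt_mul_of_pos_right (hall x (Finset.mem_erase.1 hx).1) Nat.card_pos
        _ = Nat.card X := by rw [mul_comm, Subgroup.card_mul_index]
    · rw [Finset.sum_const, smul_eq_mul, Finset.card_erase_of_mem (Finset.mem_univ _),
        Finset.card_univ, ← Nat.card_eq_fintype_card]
  rw [← hpairs, ← mul_assoc, ← Nat.add_mul] at h1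
  have h2 := Nat.lt_of_mul_lt_mul_right h1
  obtain ⟨k, hk'⟩ : ∃ k, Nat.card (ConjClasses X) = k + 1 :=
    ⟨_, (Nat.sub_add_cancel (by omega)).symm⟩
  rw [hk', Nat.add_sub_cancel] at hdeg
  rw [hk', Nat.mul_succ, mul_comm (b ^ 2) k] at h2
  omega

theorem isSolvable_of_simple {X : Type u} [Group X] [Finite X] [IsSimpleGroup X]
    (h : DegLE X 4) : Group.IsSolvable X := by
  classical
  letI := Fintype.ofFinite X
  by_contra hns
  have hcomm : commutator X = ⊤ := by
    refine ((inferInstance : (commutator X).Normal).eq_bot_or_eq_top).resolve_left fun h0 => hns ?_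
    exact ⟨⟨1, by rw [derivedSeries_one]; exact h0⟩⟩
  have hcen : Subgroup.center X = ⊥ := by
    refine ((inferInstance : (Subgroup.center X).Normal).eq_bot_or_eq_top).resolve_right fun h0 => hns ?_
    exact Group.isSolvable_of_comm fun a b => Subgroup.mem_center_iff.1 (h0 ▸ Subgroup.mem_top b) a
  obtain ⟨one, hone⟩ : ∃ o : Cfsg.IrrCharacter X, o = ⟨_, isIrrCharacter_one⟩ := ⟨_, rfl⟩
  have hlin : ∀ χ : Cfsg.IrrCharacter X, (χ : X → ℂ) 1 = 1 → χ = one := by
    intro χ h1
    obtain ⟨f, hf⟩ := IsChar.exists_hom (IsIrr.isCharacter χ.2) h1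
    rw [hone]
    refine Subtype.ext (funext fun g => ?_)
    show (χ : X → ℂ) g = 1
    rw [hf]
    simp [hom_commutator_eq_one f (hcomm ▸ Subgroup.mem_top g)]
  obtain ⟨z, hz⟩ : ∃ z : X, orderOf z = 2 := by
    by_contra hno
    have hodd : ¬ 2 ∣ Nat.card X := fun h2 => hno (exists_prime_orderOf_dvd_card' 2 h2)
    have h3 : ∀ χ : Cfsg.IrrCharacter X, χ ≠ one → Cfsg.charDegree (χ : X → ℂ) = 3 := by
      intro χ hχ
      have hd := CharArith.irr_degree_spec χ
      have hdv : Cfsg.charDegree (χ : X → ℂ) ∣ Nat.card X := IsIrr.degree_dvd_card χ.2 hd.1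
      have h1 : Cfsg.charDegree (χ : X → ℂ) ≠ 1 := fun e =>
        hχ (hlin χ (by rw [hd.1, e, Nat.cast_one]))
      have h4 := h χ
      have h5 : ¬ 2 ∣ Cfsg.charDegree (χ : X → ℂ) := fun e => hodd (e.trans hdv)
      omega
    have hsq := sum_sq_degree (G := X)
    rw [Finset.sum_eq_add_sum_sdiff_singleton_of_mem (Finset.mem_univ one),
      Finset.sum_congr rfl (g := fun _ => (9 : ℂ)) (fun χ hχ => by
        rw [(CharArith.irr_degree_spec χ).1, h3 χ (by simpa using hχ)]; norm_num),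
      Finset.sum_const, nsmul_eq_mul, show (one : X → ℂ) 1 = 1 by rw [hone]] at hsq
    obtain ⟨n, hn⟩ : ∃ n : ℕ, (Finset.univ \ {one}).card = n := ⟨_, rfl⟩
    rw [hn] at hsq
    have hsq' : 1 + n * 9 = Nat.card X := by exact_mod_cast (by linear_combination hsq : (1 : ℂ) + n * 9 = Nat.card X)
    rcases Nat.eq_zero_or_pos n with h0 | hpos
    · rw [h0] at hsq'
      have : Subsingleton X := (Nat.card_eq_one_iff_unique.1 (by omega)).1
      exact not_subsingleton X this
    · obtain ⟨χ, hχ⟩ := Finset.card_pos.1 (hn ▸ hpos)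
      have hd := CharArith.irr_degree_spec χ
      have hdv : Cfsg.charDegree (χ : X → ℂ) ∣ Nat.card X := IsIrr.degree_dvd_card χ.2 hd.1
      rw [h3 χ (by simpa using hχ)] at hdv
      omega
  have hz1 : z ≠ 1 := fun e => by simp [e] at hz
  -- values at the involution
  have hval : ∀ χ : Cfsg.IrrCharacter X, χ ≠ one →
      ∃ a : ℕ, (χ : X → ℂ) 1 * (χ : X → ℂ) z = -((3 * a : ℕ) : ℂ) := by
    intro χ hχ
    obtain ⟨m, ρ, hirr, hρ⟩ := χ.2
    obtain ⟨μ, bs, hbs, hμ, hsum⟩ := exists_eigenbasis ρ z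
    rw [hz] at hμ
    obtain ⟨r, hr⟩ : ∃ r, (Finset.univ.filter fun i => μ i = -1).card = r := ⟨_, rfl⟩
    have hμ' : ∀ i, μ i ≠ -1 → μ i = 1 := fun i hi => (sq_eq_one_iff.1 (hμ i)).resolve_right hi
    obtain ⟨d, hd⟩ : ∃ d : ℕ, Module.finrank ℂ (Fin m → ℂ) = d := ⟨_, rfl⟩
    have hd1 : (χ : X → ℂ) 1 = (d : ℂ) := by rw [← hρ, ρ.char_one, hd]
    have hdd : Cfsg.charDegree (χ : X → ℂ) = d := by simp [Cfsg.charDegree, hd1]
    have hrd : r ≤ d := hr ▸ (Finset.card_le_univ _).trans (by rw [Fintype.card_fin, hd])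
    have hz2 : (χ : X → ℂ) z = (d : ℂ) - 2 * r := by
      rw [← hρ, hsum, Finset.sum_congr rfl (g := fun i => if μ i = -1 then (-1 : ℂ) else 1)
        (fun i _ => by split_ifs with hi; exacts [hi, hμ' i hi]),
        Finset.sum_ite, Finset.sum_const, Finset.sum_const, hr]
      have hcc := Finset.card_filter_add_card_filter_not (s := Finset.univ) (fun i => μ i = -1)
      rw [hr, Finset.card_univ, Fintype.card_fin] at hcc
      have hcc := hcc.trans hd
      simp only [nsmul_eq_mul]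
      have hccC := congrArg (fun n : ℕ => (n : ℂ)) hcc
      push_cast at hccC
      linear_combination hccC
    -- the determinant is trivial
    have hdet : (-1 : ℂ) ^ r = 1 := by
      let D : X →* ℂ := (LinearMap.det).comp ρ
      have h1 : D z = 1 := by
        have h2 := hom_commutator_eq_one D.toHomUnits (g := z) (hcomm ▸ Subgroup.mem_top z)
        simpa using congrArg Units.val h2
      have h3 : D z = ∏ i, μ i := by
        show LinearMap.det (ρ z) = _
        rw [← LinearMap.det_toMatrix bs, show LinearMap.toMatrix bs bs (ρ z) = Matrix.diagonal μ by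
          ext i j
          rw [LinearMap.toMatrix_apply, hbs, Matrix.diagonal_apply]
          simp [Finsupp.single_apply, eq_comm]
          split_ifs with h4 <;> simp [h4],
          Matrix.det_diagonal]
      have h4 : ∏ i, μ i = (-1 : ℂ) ^ r := by
        rw [Finset.prod_congr rfl (g := fun i => if μ i = -1 then (-1 : ℂ) else 1)
          (fun i _ => by split_ifs with hi; exacts [hi, hμ' i hi]),
          Finset.prod_ite, Finset.prod_const, Finset.prod_const_one, hr, mul_one]
      exact h4.symm.trans (h3.symm.trans h1)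
    have hreven : Even r := (neg_one_pow_eq_one_iff_even (by norm_num)).1 hdet
    have hnot : r ≠ 0 ∧ r ≠ d := by
      have key : ∀ hnorm : ‖(χ : X → ℂ) z‖ = (d : ℝ), False := fun hnorm => by
        obtain ⟨ω, hω, -⟩ := scalar_of_norm_character_eq ρ z (by rw [hρ, hd]; exact hnorm)
        have hc : z ∈ Subgroup.center X := by
          refine Subgroup.mem_center_iff.2 fun g => ?_
          have hker : ρ (g * z * g⁻¹ * z⁻¹) = 1 := by
            have h1 : ρ (g * z * g⁻¹) = ρ z := by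
              rw [map_mul, map_mul, hω, ← Module.End.one_eq_id, mul_smul_comm, mul_one,
                smul_mul_assoc, ← map_mul, mul_inv_cancel, map_one]
            rw [map_mul, h1, ← map_mul, mul_inv_cancel, map_one ρ]
          have hk : kerSubgroup (IsIrr.isCharacter χ.2) = ⊥ := by
            refine ((kerSubgroup_normal _).eq_bot_or_eq_top).resolve_right fun e => hχ (hlin χ ?_)
            refine degree_one_of_commutator_le_ker χ.2 fun y _ => ?_
            exact (e ▸ Subgroup.mem_top y : y ∈ kerSubgroup (IsIrr.isCharacter χ.2))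
          have : g * z * g⁻¹ * z⁻¹ ∈ kerSubgroup (IsIrr.isCharacter χ.2) := by
            show (χ : X → ℂ) _ = (χ : X → ℂ) 1
            rw [← hρ]
            show LinearMap.trace ℂ _ (ρ _) = LinearMap.trace ℂ _ (ρ 1)
            rw [hker, map_one ρ]
          rw [hk, Subgroup.mem_bot, mul_inv_eq_one, mul_inv_eq_iff_eq_mul] at this
          exact this
        rw [hcen, Subgroup.mem_bot] at hc
        exact hz1 hc
      refine ⟨fun e => key ?_, fun e => key ?_⟩
      · rw [hz2, e]; simp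
      · rw [hz2, e, show (d : ℂ) - 2 * d = -(d : ℂ) by ring]; simp
    have hdne : d ≠ 1 := fun e => hχ (hlin χ (by rw [hd1, e, Nat.cast_one]))
    have hd4 : d ≤ 4 := hdd ▸ h χ
    obtain ⟨j, hj⟩ := hreven
    rw [hd1, hz2]
    rcases (show (d = 3 ∧ r = 2) ∨ (d = 4 ∧ r = 2) by omega) with ⟨e1, e2⟩ | ⟨e1, e2⟩
    · exact ⟨1, by rw [e1, e2]; norm_num⟩
    · exact ⟨0, by rw [e1, e2]; norm_num⟩
  choose a ha using hval
  have hreg := regular_eq_sum (G := X) z
  rw [if_neg hz1, Finset.sum_eq_add_sum_sdiff_singleton_of_mem (Finset.mem_univ one)] at hreg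
  obtain ⟨f, hf⟩ : ∃ f : Cfsg.IrrCharacter X → ℕ, ∀ χ ∈ Finset.univ \ {one},
      (χ : X → ℂ) 1 * (χ : X → ℂ) z = -((3 * f χ : ℕ) : ℂ) :=
    ⟨fun χ => if hh : χ ≠ one then a χ hh else 0, fun χ hχ => by
      have hne : χ ≠ one := by simpa using hχ
      simp only [dif_pos hne]
      exact ha χ hne⟩
  rw [Finset.sum_congr rfl hf, hone] at hreg
  simp only [one_mul, Finset.sum_neg_distrib, ← Nat.cast_sum, ← Finset.mul_sum] at hreg
  have h3 : ((3 * ∑ χ ∈ Finset.univ \ {one}, f χ : ℕ) : ℂ) = ((1 : ℕ) : ℂ) := by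
    rw [hone, Nat.cast_one]; linear_combination -hreg
  rw [Nat.cast_inj] at h3
  omega

theorem isSolvable_of_degLE_four : ∀ (n : ℕ) (X : Type u) [Group X] [Finite X],
    Nat.card X = n → DegLE X 4 → Group.IsSolvable X := by
  intro n
  induction n using Nat.strong_induction_on with
  | _ n ih =>
  intro X _ _ hn h
  rcases subsingleton_or_nontrivial X with hs | hnt
  · exact Group.isSolvable_of_comm fun a b => Subsingleton.elim _ _
  by_cases hex : ∃ N : Subgroup X, N.Normal ∧ N ≠ ⊥ ∧ N ≠ ⊤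
  · obtain ⟨N, hN, hb, ht⟩ := hex
    haveI := hN
    have h1 : Group.IsSolvable N := ih _ (hn ▸ lt_of_le_of_ne N.card_le_card_group
      fun e => ht (N.eq_top_of_card_eq e)) N rfl (degLE_subgroup h N)
    have h2 : Group.IsSolvable (X ⧸ N) := ih _ (by
      rw [← hn, ← N.index_mul_card]
      exact lt_mul_of_one_lt_right (Nat.pos_of_ne_zero Subgroup.index_ne_zero_of_finite)
        ((Subgroup.one_lt_card_iff_ne_bot N).2 hb)) (X ⧸ N) rfl (degLE_quotient h N)
    exact Group.isSolvable_of_ker_le_range N.subtype (QuotientGroup.mk' N) (by simp)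
  · push Not at hex
    haveI : IsSimpleGroup X := ⟨fun H hH => or_iff_not_imp_left.2 fun hb => hex H hH hb⟩
    exact isSolvable_of_simple h

end Cfsg.Agent.AbelianIndex
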