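import Cfsg.Agent.CharArith.AbelianIndex

/-!
The recursion for the abelian subgroup of index at most `(b!)²`
-/

namespace Cfsg.Agent.AbelianIndex

open Cfsg.Agent Cfsg.Agent.Char
open scoped ComplexConjugate

universe u

theorem degLE_pred_or_exists {G : Type u} [Group G] {b : ℕ} (h : DegLE G b) :
    DegLE G (b - 1) ∨ ∃ χ : Cfsg.IrrCharacter G, Cfsg.charDegree (χ : G → ℂ) = b := by
  by_cases he : ∃ χ : Cfsg.IrrCharacter G, Cfsg.charDegree (χ : G → ℂ) = b
  · exact Or.inr he
  · push Not at he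
    exact Or.inl fun χ => by have := h χ; have := he χ; omega

/-- An irreducible character with a kernel inside a central extension: values off the centre. -/
theorem central_values {X : Type u} [Group X] [Finite X] {θ : X → ℂ}
    (hθ : Cfsg.IsIrrCharacter X θ) (hf : ∀ c, θ c = θ 1 → c = 1)
    (hcl : ∀ g x : X, g * x * g⁻¹ * x⁻¹ ∈ Subgroup.center X) :
    (∀ x ∉ Subgroup.center X, θ x = 0) ∧ ∀ z ∈ Subgroup.center X, θ z * conj (θ z) = θ 1 ^ 2 := by
  classical
  letI := Fintype.ofFinite X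
  have h1 := IsIrr.one_ne_zero hθ
  have hmul : ∀ c ∈ Subgroup.center X, ∀ y, θ 1 * θ (c * y) = θ c * θ y := by
    intro c hc y
    have h := CharArith.classMult hθ c y
    rw [Finset.sum_congr rfl (g := fun _ => θ (c * y)) (fun a _ => by
      rw [Subgroup.mem_center_iff.1 hc a, mul_inv_cancel_right]),
      Finset.sum_const, Finset.card_univ, nsmul_eq_mul, ← Nat.card_eq_fintype_card] at h
    refine mul_left_cancel₀ (Nat.cast_ne_zero.2 (Nat.card_pos (α := X)).ne' : (Nat.card X : ℂ) ≠ 0) ?_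
    linear_combination h
  refine ⟨fun x hx => ?_, fun z hz => ?_⟩
  · obtain ⟨g, hg⟩ : ∃ g, g * x * g⁻¹ * x⁻¹ ≠ 1 := by
      by_contra! hall
      refine hx (Subgroup.mem_center_iff.2 fun g => ?_)
      have := hall g
      rw [mul_inv_eq_one, mul_inv_eq_iff_eq_mul] at this
      exact this
    have h := hmul _ (hcl g x) x
    rw [inv_mul_cancel_right, isClassFunction_of_isIrr hθ x g] at h
    by_contra hne
    exact hg (hf _ (mul_right_cancel₀ hne h).symm)
  · have h := hmul z hz z⁻¹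
    rw [mul_inv_cancel] at h
    rw [← IsChar.inv_eq_conj (IsIrr.isCharacter hθ) z, ← h, sq]

/-- Alternatives of the recursion step. -/
def Step (G : Type u) [Group G] (b : ℕ) : Prop :=
  (∃ H : Subgroup G, H.index ≤ b ^ 2 ∧ DegLE H (b - 1)) ∨
    ∃ N : Subgroup G, DegLE N (b / 2) ∧ ((3 ≤ b ∧ N.index ≤ b ^ 3) ∨ (5 ≤ b ∧ N.index ≤ b ^ 4))

variable {G : Type u} [Group G] [Finite G] {b : ℕ}

/-- Quotient by `N` with non-trivial centre, every proper quotient abelian. -/
theorem step_central (h : DegLE G b) (N : Subgroup G) [N.Normal] {θ : G ⧸ N → ℂ}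
    (hθ : Cfsg.IsIrrCharacter (G ⧸ N) θ) (hθ1 : θ 1 ≠ 1) (hf : ∀ c, θ c = θ 1 → c = 1)
    (hcl : ∀ g x : G ⧸ N, g * x * g⁻¹ * x⁻¹ ∈ Subgroup.center (G ⧸ N)) : Step G b := by
  classical
  letI := Fintype.ofFinite G
  letI := Fintype.ofFinite (G ⧸ N)
  obtain ⟨hv, hn⟩ := central_values hθ hf hcl
  obtain ⟨H, hH⟩ : ∃ H : Subgroup G,
      (Subgroup.center (G ⧸ N)).comap (QuotientGroup.mk' N) = H := ⟨_, rfl⟩
  letI := Fintype.ofFinite H
  obtain ⟨d, hd0, hd⟩ := IsIrr.degree hθ
  have hd2 : 2 ≤ d := by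
    rcases Nat.lt_or_ge d 2 with hlt | hge
    · exfalso
      exact hθ1 (by rw [hd, show d = 1 by omega, Nat.cast_one])
    · exact hge
  have hmem : ∀ g : G, g ∈ H ↔ (g : G ⧸ N) ∈ Subgroup.center (G ⧸ N) := fun g => by
    rw [← hH]; rfl
  -- the index
  have hidx : (H.index : ℂ) = (d : ℂ) ^ 2 := by
    rw [← hH, Subgroup.index_comap_of_surjective _ (QuotientGroup.mk'_surjective N)]
    have h1 := classInner_irr_self hθ
    rw [Cfsg.classInner, inv_mul_eq_iff_eq_mul₀ (Nat.cast_ne_zero.2 Nat.card_pos.ne'), mul_one,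
      ← Finset.sum_filter_add_sum_filter_not Finset.univ (· ∈ Subgroup.center (G ⧸ N)),
      Finset.sum_eq_zero (s := Finset.univ.filter fun x => ¬ x ∈ Subgroup.center (G ⧸ N))
        (fun x hx => by rw [hv x (Finset.mem_filter.1 hx).2, zero_mul]), add_zero,
      Finset.sum_congr rfl (g := fun _ => θ 1 ^ 2) (fun x hx => hn x (Finset.mem_filter.1 hx).2),
      Finset.sum_const, nsmul_eq_mul, ← (Subgroup.center (G ⧸ N)).card_mul_index, Nat.cast_mul,
      ← Fintype.card_subtype, ← Nat.card_eq_fintype_card, hd] at h1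
    exact (mul_left_cancel₀ (Nat.cast_ne_zero.2 Nat.card_pos.ne') h1).symm
  have hidx' : H.index = d ^ 2 := by exact_mod_cast hidx
  have hdb : d ≤ b := by
    have := degLE_quotient h N ⟨θ, hθ⟩
    simpa [Cfsg.charDegree, hd] using this
  refine Or.inl ⟨H, hidx' ▸ Nat.pow_le_pow_left hdb 2,
    (degLE_pred_or_exists (degLE_subgroup h H)).resolve_right ?_⟩
  rintro ⟨ψ, hψ⟩
  obtain ⟨χ, hχ, hres⟩ := exists_ext h ψ hψ
  have hb : 0 < b := hd0.trans_le hdb
  -- the product is irreducible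
  have hθG : Cfsg.IsIrrCharacter G (fun g => θ (g : G ⧸ N)) := isIrrCharacter_mk N hθ
  have hirr : Cfsg.IsIrrCharacter G (fun g => θ (g : G ⧸ N) * (χ : G → ℂ) g) := by
    refine (isIrr_iff_norm_one (isCharacter_mul (IsIrr.isCharacter hθG)
      (IsIrr.isCharacter χ.2))).2 ?_
    simp only [Cfsg.classInner, Pi.mul_apply, map_mul]
    have h2 := classInner_irr_self ψ.2
    rw [Cfsg.classInner, inv_mul_eq_iff_eq_mul₀ (Nat.cast_ne_zero.2 Nat.card_pos.ne'), mul_one] at h2
    have e : ∑ g : G, θ (g : G ⧸ N) * (χ : G → ℂ) g *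
        (conj (θ (g : G ⧸ N)) * conj ((χ : G → ℂ) g)) =
        ∑ y : H, (d : ℂ) ^ 2 * ((ψ : H → ℂ) y * conj ((ψ : H → ℂ) y)) := by
      refine (Finset.sum_of_injOn (fun y : H => (y : G)) Subtype.val_injective.injOn
        (fun y _ => Finset.mem_univ _) (fun g _ hg => ?_) fun y _ => ?_).symm
      · rw [hv _ fun hgc => hg ⟨⟨g, (hmem g).2 hgc⟩, Finset.mem_coe.2 (Finset.mem_univ _), rfl⟩,
          zero_mul, zero_mul]
      · rw [← hres, ← hd, ← hn _ ((hmem y).1 y.2)]
        ring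
    rw [e, ← Finset.mul_sum, h2, ← hidx]
    have hc : (Nat.card H : ℂ) * (H.index : ℂ) = (Nat.card G : ℂ) := by
      exact_mod_cast H.card_mul_index
    rw [mul_comm (H.index : ℂ), hc, inv_mul_cancel₀ (Nat.cast_ne_zero.2 Nat.card_pos.ne')]
  have := h ⟨_, hirr⟩
  have e : Cfsg.charDegree (fun g => θ ((QuotientGroup.mk g : G ⧸ N)) * (χ : G → ℂ) g) = d * b := by
    rw [Cfsg.charDegree, (CharArith.irr_degree_spec χ).1, hχ, QuotientGroup.mk_one, hd,
      ← Nat.cast_mul, Complex.natCast_re, Nat.floor_natCast]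
  change Cfsg.charDegree (fun g => θ ((QuotientGroup.mk g : G ⧸ N)) * (χ : G → ℂ) g) ≤ b at this
  rw [e] at this
  nlinarith

/-- Quotient by `N` with non-abelian minimal normal subgroup. -/
theorem step_nonabelian (h : DegLE G b) (N : Subgroup G) [N.Normal] (hhalf : DegLE N (b / 2))
    (hmin : ∀ M : Subgroup (G ⧸ N), M.Normal → M ≠ ⊥ → commutator (G ⧸ N) ≤ M)
    (hS : ¬ ∀ a ∈ commutator (G ⧸ N), ∀ c ∈ commutator (G ⧸ N), a * c = c * a) : Step G b := by
  classical
  letI := Fintype.ofFinite G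
  have hS0 : commutator (G ⧸ N) ≠ ⊥ := fun e => hS fun a ha c hc => by
    rw [e, Subgroup.mem_bot] at ha hc
    rw [ha, hc]
  haveI : Nontrivial (G ⧸ N) := by
    by_contra hnt
    rw [not_nontrivial_iff_subsingleton] at hnt
    exact hS fun a _ c _ => Subsingleton.elim _ _
  have hb5 : 5 ≤ b := by
    by_contra hlt
    have hsol : Group.IsSolvable (G ⧸ N) := isSolvable_of_degLE_four _ (G ⧸ N) rfl
      fun χ => (degLE_quotient h N χ).trans (by omega)
    have hlt2 := Group.IsSolvable.commutator_lt_of_ne_bot hS0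
    have hn : (⁅commutator (G ⧸ N), commutator (G ⧸ N)⁆).Normal := Subgroup.commutator_normal _ _
    have h0 : ⁅commutator (G ⧸ N), commutator (G ⧸ N)⁆ = ⊥ := by
      by_contra hne
      exact not_le_of_gt hlt2 (hmin _ hn hne)
    refine hS fun a ha c hc => ?_
    have := Subgroup.commutator_mem_commutator ha hc
    rw [h0, Subgroup.mem_bot, commutatorElement_eq_one_iff_mul_comm] at this
    exact this
  obtain ⟨x, hx1, hxc⟩ := exists_small_class (degLE_quotient h N)
  obtain ⟨H, hH⟩ : ∃ H : Subgroup G,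
      (Subgroup.centralizer ({x} : Set (G ⧸ N))).comap (QuotientGroup.mk' N) = H := ⟨_, rfl⟩
  letI := Fintype.ofFinite H
  have hHi : H.index ≤ b ^ 2 := by
    rw [← hH, Subgroup.index_comap_of_surjective _ (QuotientGroup.mk'_surjective N)]; exact hxc
  rcases degLE_pred_or_exists (degLE_subgroup h H) with h1 | ⟨ψ, hψ⟩
  · exact Or.inl ⟨H, hHi, h1⟩
  obtain ⟨χ, hχ, hres⟩ := exists_ext h ψ hψ
  have hirr : Cfsg.IsIrrCharacter H (fun y : H => (χ : G → ℂ) y) := funext hres ▸ ψ.2
  have hcore : (Subgroup.centralizer ({x} : Set (G ⧸ N))).normalCore = ⊥ := by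
    by_contra hne
    have hle : commutator (G ⧸ N) ≤ Subgroup.centralizer ({x} : Set (G ⧸ N)) :=
      (hmin _ inferInstance hne).trans (Subgroup.normalCore_le _)
    have hxS : x ∈ Subgroup.centralizer (commutator (G ⧸ N) : Set (G ⧸ N)) :=
      Subgroup.mem_centralizer_iff.2 fun s hs => Subgroup.mem_centralizer_singleton_iff.1 (hle hs)
    have hC : Subgroup.centralizer (commutator (G ⧸ N) : Set (G ⧸ N)) ≠ ⊥ := fun e =>
      hx1 (Subgroup.mem_bot.1 (e ▸ hxS))
    exact hS fun a ha c hc => (Subgroup.mem_centralizer_iff.1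
      (hmin _ (inferInstance) hC hc) a ha)
  have hNH : N ≤ H := fun y hy => by
    rw [← hH, Subgroup.mem_comap, QuotientGroup.mk'_apply, (QuotientGroup.eq_one_iff y).2 hy]
    exact one_mem _
  have hv : ∀ y ∈ H, y ∉ N → (χ : G → ℂ) y = 0 := fun y hy hyN =>
    eq_zero_of_max h (by omega) χ hχ hirr hy fun hyc => hyN (by
      rw [← QuotientGroup.eq_one_iff, ← Subgroup.mem_bot, ← hcore]
      intro g
      obtain ⟨g, rfl⟩ := QuotientGroup.mk_surjective g
      have h2 := hyc g
      rw [← hH] at h2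
      exact h2)
  have hrel := relIndex_le_of_vanish hNH χ hirr hv
  rw [hχ] at hrel
  refine Or.inr ⟨N, hhalf, Or.inr ⟨hb5, ?_⟩⟩
  rw [← Subgroup.relIndex_mul_index hNH, show b ^ 4 = b ^ 2 * b ^ 2 by ring]
  exact Nat.mul_le_mul hrel hHi

/-- Quotient by `N` with abelian minimal normal subgroup and trivial centre. -/
theorem step_abelian (h : DegLE G b) (N : Subgroup G) [N.Normal] (hhalf : DegLE N (b / 2))
    (hmin : ∀ M : Subgroup (G ⧸ N), M.Normal → M ≠ ⊥ → commutator (G ⧸ N) ≤ M)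
    (hS : ∀ a ∈ commutator (G ⧸ N), ∀ c ∈ commutator (G ⧸ N), a * c = c * a)
    (hS0 : commutator (G ⧸ N) ≠ ⊥) (hZ : Subgroup.center (G ⧸ N) = ⊥) : Step G b := by
  classical
  letI := Fintype.ofFinite G
  letI := Fintype.ofFinite (G ⧸ N)
  obtain ⟨S, hSd⟩ : ∃ S, commutator (G ⧸ N) = S := ⟨_, rfl⟩
  rw [hSd] at hS hS0 hmin
  haveI hSn : S.Normal := hSd ▸ (inferInstance : (commutator (G ⧸ N)).Normal)
  have hcomm : ∀ u v : G ⧸ N, u * v * u⁻¹ * v⁻¹ ∈ S := fun u v =>
    hSd ▸ Subgroup.commutator_mem_commutator (Subgroup.mem_top u) (Subgroup.mem_top v)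
  -- outside `centralizer S` the centralisers in `centralizer S` are trivial
  have hSY : S ≤ Subgroup.centralizer (S : Set (G ⧸ N)) := fun s hs =>
    Subgroup.mem_centralizer_iff.2 fun t ht => hS t ht s hs
  have hfree0 : ∀ g ∉ Subgroup.centralizer (S : Set (G ⧸ N)), ∀ y,
      y ∈ Subgroup.centralizer (S : Set (G ⧸ N)) → y * g = g * y → y = 1 := by
    intro g hg y hy hyg
    obtain ⟨W, hW⟩ : ∃ W : Subgroup (G ⧸ N),
        Subgroup.centralizer (S : Set (G ⧸ N)) ⊓ Subgroup.centralizer ({g} : Set (G ⧸ N)) = W :=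
      ⟨_, rfl⟩
    have hWn : W.Normal := ⟨fun w hw k => by
      rw [← hW, Subgroup.mem_inf] at hw ⊢
      refine ⟨(inferInstance : (Subgroup.centralizer (S : Set (G ⧸ N))).Normal).conj_mem w hw.1 k, ?_⟩
      rw [Subgroup.mem_centralizer_singleton_iff]
      have h1 : w * g = g * w := Subgroup.mem_centralizer_singleton_iff.1 hw.2
      -- `k⁻¹ g k = g s`
      obtain ⟨s, hs, hgs⟩ : ∃ s ∈ S, k⁻¹ * g * k = g * s := by
        refine ⟨g⁻¹ * k⁻¹ * g * k, ?_, by group⟩
        have := hcomm g⁻¹ k⁻¹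
        simpa [mul_assoc] using this
      have h2 : w * (g * s) = (g * s) * w := by
        rw [← mul_assoc, h1, mul_assoc, ← Subgroup.mem_centralizer_iff.1 hw.1 s hs, ← mul_assoc]
      rw [← hgs] at h2
      have e := congrArg (fun t => k * t * k⁻¹) h2
      simpa [mul_assoc] using e⟩
    by_contra hy1
    have hWb : W ≠ ⊥ := fun e => hy1 (Subgroup.mem_bot.1 (e ▸ (hW ▸ Subgroup.mem_inf.2
      ⟨hy, Subgroup.mem_centralizer_singleton_iff.2 hyg⟩)))
    refine hg (Subgroup.mem_centralizer_iff.2 fun s hs => ?_)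
    have := hmin W hWn hWb hs
    rw [← hW] at this
    exact Subgroup.mem_centralizer_singleton_iff.1 this.2
  obtain ⟨g₀, hg₀⟩ : ∃ g, g ∉ Subgroup.centralizer (S : Set (G ⧸ N)) := by
    by_contra! hall
    obtain ⟨s, hs, hs1⟩ := (Subgroup.ne_bot_iff_exists_ne_one).1 hS0 |> fun ⟨⟨s, hs⟩, h1⟩ =>
      (⟨s, hs, fun e => h1 (Subtype.ext e)⟩ : ∃ s, s ∈ S ∧ s ≠ 1)
    refine hs1 (Subgroup.mem_bot.1 (hZ ▸ Subgroup.mem_center_iff.2 fun g => ?_))
    exact (Subgroup.mem_centralizer_iff.1 (hall g) s hs).symm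
  have hcent : Subgroup.centralizer (S : Set (G ⧸ N)) = S := by
    refine (Subgroup.eq_of_le_of_card_ge hSY ?_).symm
    refine Nat.card_le_card_of_injective
      (fun y : Subgroup.centralizer (S : Set (G ⧸ N)) =>
        (⟨g₀ * (y : G ⧸ N) * g₀⁻¹ * (y : G ⧸ N)⁻¹, hcomm _ _⟩ : S)) fun y y' e => Subtype.ext ?_
    have e' : g₀ * (y : G ⧸ N) * g₀⁻¹ * (y : G ⧸ N)⁻¹ = g₀ * y' * g₀⁻¹ * (y' : G ⧸ N)⁻¹ :=
      congrArg Subtype.val e
    have h1 := hfree0 g₀ hg₀ ((y' : G ⧸ N)⁻¹ * y)
      (mul_mem (inv_mem y'.2) y.2) (by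
        have e2 : (y : G ⧸ N) * g₀⁻¹ * (y : G ⧸ N)⁻¹ = y' * g₀⁻¹ * (y' : G ⧸ N)⁻¹ := by
          have := congrArg (fun t => g₀⁻¹ * t) e'
          simpa [mul_assoc] using this
        have e3 := congrArg (fun t => (y' : G ⧸ N)⁻¹ * t⁻¹ * y) e2
        simpa [mul_assoc] using e3)
    exact (inv_mul_eq_one.1 h1).symm
  have hfree : ∀ g ∉ S, ∀ y ∈ S, y * g = g * y → y = 1 := fun g hg y hy =>
    hfree0 g (hcent.symm ▸ hg) y (hSY hy)
  -- the linear characters of `S` are permuted freely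
  letI := Fintype.ofFinite S
  have hmove : ∀ (l : S →* ℂˣ) (g : G ⧸ N), g ∉ S →
      (∀ s : S, l ⟨g * s * g⁻¹, hSn.conj_mem _ s.2 g⟩ = l s) → l = 1 := by
    intro l g hg hfix
    let c : S → S := fun s => ⟨g * s * g⁻¹ * (s : G ⧸ N)⁻¹, hcomm _ _⟩
    have hinj : Function.Injective c := fun s t e => by
      have e' := congrArg Subtype.val e
      simp only [c] at e'
      have h1 := hfree g hg ((t : G ⧸ N)⁻¹ * s) (mul_mem (inv_mem t.2) s.2) (by
        have e2 : (s : G ⧸ N) * g⁻¹ * (s : G ⧸ N)⁻¹ = t * g⁻¹ * (t : G ⧸ N)⁻¹ := by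
          have := congrArg (fun u => g⁻¹ * u) e'
          simpa [mul_assoc] using this
        have e3 := congrArg (fun u => (t : G ⧸ N)⁻¹ * u⁻¹ * s) e2
        simpa [mul_assoc] using e3)
      exact Subtype.ext (inv_mul_eq_one.1 h1).symm
    refine MonoidHom.ext fun s => ?_
    obtain ⟨t, rfl⟩ := Finite.surjective_of_injective hinj s
    have e : c t = (⟨g * t * g⁻¹, hSn.conj_mem _ t.2 g⟩ : S) * t⁻¹ := Subtype.ext rfl
    rw [e, map_mul, map_inv, hfix, mul_inv_cancel, MonoidHom.one_apply]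
  haveI : Nontrivial S := (Subgroup.nontrivial_iff_ne_bot S).2 hS0
  obtain ⟨lam, hlam⟩ := Char.exists_linear_ne_one (G := S)
    (Group.isSolvable_of_comm fun a c => Subtype.ext (hS a a.2 c c.2))
  -- the index of `S`
  have hinertia : inertia (fun s : S => (lam s : ℂ)) ≤ S := fun g hg => by
    by_contra hgS
    exact hlam (hmove lam g hgS fun s => Units.ext (congrFun (mem_inertia.1 hg) s))
  have hSi : S.index ≤ b := by
    obtain ⟨θ, h0, -, hθb⟩ := exists_over_degree (degLE_quotient h N) S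
      (⟨_, isIrrCharacter_hom lam⟩ : Cfsg.IrrCharacter S)
    obtain ⟨e, he⟩ := classInner_isCharacter_eq_natCast
      (isCharacter_res S (IsIrr.isCharacter θ.2)) (isCharacter_hom lam)
    have hcl := degree_eq_of_clifford θ.2 (isIrrCharacter_hom lam) h0
    rw [he, (CharArith.irr_degree_spec θ).1] at hcl
    simp only [map_one, Units.val_one, mul_one] at hcl
    have hcl' : Cfsg.charDegree (θ : G ⧸ N → ℂ) =
        e * (inertia (fun s : S => (lam s : ℂ))).index := by exact_mod_cast hcl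
    have hdvd : S.index ∣ (inertia (fun s : S => (lam s : ℂ))).index :=
      Subgroup.index_dvd_of_le hinertia
    exact (Nat.le_of_dvd (CharArith.irr_degree_spec θ).2 (hcl' ▸ dvd_mul_of_dvd_right hdvd e)).trans hθb
  have hSi2 : 2 ≤ S.index := by
    rcases Nat.lt_or_ge S.index 2 with hlt | hge
    · exfalso
      have h1 : S.index = 1 := by
        have := Nat.pos_of_ne_zero (Subgroup.index_ne_zero_of_finite (H := S)); omega
      refine hg₀ (hSY ?_)
      rw [Subgroup.index_eq_one.1 h1]; exact Subgroup.mem_top _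
    · exact hge
  obtain ⟨K, hK⟩ : ∃ K : Subgroup G, S.comap (QuotientGroup.mk' N) = K := ⟨_, rfl⟩
  haveI hKn : K.Normal := hK ▸ inferInstance
  letI := Fintype.ofFinite K
  have hKi : K.index = S.index := by
    rw [← hK, Subgroup.index_comap_of_surjective _ (QuotientGroup.mk'_surjective N)]
  rcases degLE_pred_or_exists (degLE_subgroup h K) with h1 | ⟨ψ, hψ⟩
  · exact Or.inl ⟨K, hKi ▸ hSi.trans (by nlinarith), h1⟩
  obtain ⟨χ, hχ, hres⟩ := exists_ext h ψ hψ
  have hirr : Cfsg.IsIrrCharacter K (fun y : K => (χ : G → ℂ) y) := funext hres ▸ ψ.2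
  let π : K →* S := ((QuotientGroup.mk' N).comp K.subtype).codRestrict S fun y => by
    have h : (y : G) ∈ S.comap (QuotientGroup.mk' N) := by rw [hK]; exact y.2
    exact h
  -- a non-trivial twist fixing `ψ` forces vanishing off `N`
  have hvan : ∀ l : S →* ℂˣ, l ≠ 1 → (∀ y : K, (ψ : K → ℂ) y * (l (π y) : ℂ) = (ψ : K → ℂ) y) →
      ∀ y ∈ K, y ∉ N → (χ : G → ℂ) y = 0 := by
    intro l hl hfix y hy hyN
    by_contra hne
    let D : Subgroup (G ⧸ N) :=
      { carrier := {s | ∀ k : G ⧸ N, ∃ hh : k * s * k⁻¹ ∈ S, l ⟨_, hh⟩ = 1}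
        one_mem' := fun k => ⟨by simp, by
          convert map_one l using 2
          exact Subtype.ext (by simp)⟩
        mul_mem' := fun {s t} hs ht k => by
          obtain ⟨h1, e1⟩ := hs k
          obtain ⟨h2, e2⟩ := ht k
          refine ⟨by simpa [mul_assoc] using mul_mem h1 h2, ?_⟩
          have := map_mul l ⟨_, h1⟩ ⟨_, h2⟩
          rw [e1, e2, one_mul] at this
          convert this using 2
          exact Subtype.ext (by simp [mul_assoc])
        inv_mem' := fun {s} hs k => by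
          obtain ⟨h1, e1⟩ := hs k
          refine ⟨by simpa [mul_assoc] using inv_mem h1, ?_⟩
          have := map_inv l ⟨_, h1⟩
          rw [e1, inv_one] at this
          convert this using 2
          exact Subtype.ext (by simp [mul_assoc]) }
    have hDn : D.Normal := ⟨fun s hs k j => by
      obtain ⟨h1, e1⟩ := hs (j * k)
      refine ⟨by simpa [mul_assoc] using h1, ?_⟩
      convert e1 using 2
      exact Subtype.ext (by simp [mul_assoc])⟩
    have hyD : (y : G ⧸ N) ∈ D := by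
      intro k
      obtain ⟨k, rfl⟩ := QuotientGroup.mk_surjective k
      have hky : k * y * k⁻¹ ∈ K := hKn.conj_mem y hy k
      refine ⟨by have := hky; rw [← hK] at this; exact this, ?_⟩
      have h1 := hfix ⟨_, hky⟩
      have h2 : (ψ : K → ℂ) ⟨_, hky⟩ ≠ 0 := by
        rw [← hres]
        show (χ : G → ℂ) (k * y * k⁻¹) ≠ 0
        rw [isClassFunction_of_isIrr χ.2 y k]; exact hne
      exact Units.ext (mul_left_cancel₀ h2 (h1.trans (mul_one _).symm))
    have hDb : D ≠ ⊥ := fun e => hyN (by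
      rw [← QuotientGroup.eq_one_iff, ← Subgroup.mem_bot, ← e]; exact hyD)
    refine hl (MonoidHom.ext fun s => ?_)
    obtain ⟨h1, e1⟩ := hmin D hDn hDb s.2 1
    rw [MonoidHom.one_apply, ← e1]
    congr 1
    exact Subtype.ext (by simp)
  -- the vanishing
  have hv : ∀ y ∈ K, y ∉ N → (χ : G → ℂ) y = 0 := by
    by_cases hfix : ∀ y : K, (ψ : K → ℂ) y * (lam (π y) : ℂ) = (ψ : K → ℂ) y
    · exact hvan lam hlam hfix
    exfalso
    have hη : Cfsg.IsIrrCharacter K (fun y : K => (ψ : K → ℂ) y * ((lam.comp π) y : ℂ)) :=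
      isIrr_mul_hom ψ.2 (lam.comp π)
    have hηK : inertia (fun y : K => (ψ : K → ℂ) y * ((lam.comp π) y : ℂ)) ≤ K := by
      intro g hg
      by_contra hgK
      have hgS : (g : G ⧸ N) ∉ S := fun e => hgK (by rw [← hK]; exact e)
      obtain ⟨l2, hl2⟩ : ∃ l2 : S →* ℂˣ, ∀ s : S, l2 s =
          lam ⟨(g : G ⧸ N) * s * (g : G ⧸ N)⁻¹, hSn.conj_mem _ s.2 _⟩ * (lam s)⁻¹ :=
        ⟨{ toFun := fun s =>
             lam ⟨(g : G ⧸ N) * s * (g : G ⧸ N)⁻¹, hSn.conj_mem _ s.2 _⟩ * (lam s)⁻¹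
           map_one' := by
             rw [map_one lam, inv_one, mul_one]
             convert map_one lam using 2
             exact Subtype.ext (by simp)
           map_mul' := fun s t => by
             rw [map_mul lam s t, mul_inv, mul_mul_mul_comm, ← map_mul lam]
             congr 2
             exact Subtype.ext (by simp [mul_assoc]) }, fun _ => rfl⟩
      have hl21 : l2 ≠ 1 := fun e => hlam (hmove lam (g : G ⧸ N) hgS fun s => by
        have := hl2 s
        rw [e, MonoidHom.one_apply] at this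
        exact (mul_inv_eq_one.1 this.symm))
      have hfix2 : ∀ y : K, (ψ : K → ℂ) y * (l2 (π y) : ℂ) = (ψ : K → ℂ) y := by
        intro y
        have h1 := congrFun (mem_inertia.1 hg) y
        simp only [conjFun, MonoidHom.comp_apply] at h1
        have h2 : (ψ : K → ℂ) ⟨g * y * g⁻¹, hKn.conj_mem _ y.2 g⟩ = (ψ : K → ℂ) y := by
          rw [← hres, ← hres]
          exact isClassFunction_of_isIrr χ.2 y g
        rw [h2, show π ⟨g * y * g⁻¹, hKn.conj_mem _ y.2 g⟩ =
          ⟨(g : G ⧸ N) * (π y : G ⧸ N) * (g : G ⧸ N)⁻¹, hSn.conj_mem _ (π y).2 _⟩ from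
            Subtype.ext rfl] at h1
        rw [hl2, Units.val_mul, ← mul_assoc, h1, mul_assoc, ← Units.val_mul, mul_inv_cancel,
          Units.val_one, mul_one]
      have hv2 := hvan l2 hl21 hfix2
      refine hfix fun y => ?_
      by_cases hy : (y : G) ∈ N
      · rw [show π y = 1 from Subtype.ext ((QuotientGroup.eq_one_iff (y : G)).2 hy), map_one,
          Units.val_one, mul_one]
      · have : (ψ : K → ℂ) y = 0 := by rw [← hres]; exact hv2 y y.2 hy
        rw [this, zero_mul]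
    obtain ⟨χ', h0, hd1, hd2⟩ := exists_over_degree h K
      (⟨_, hη⟩ : Cfsg.IrrCharacter K)
    obtain ⟨e, he⟩ := classInner_isCharacter_eq_natCast
      (isCharacter_res K (IsIrr.isCharacter χ'.2)) (IsIrr.isCharacter hη)
    have hcl := degree_eq_of_clifford χ'.2 hη h0
    rw [he, (CharArith.irr_degree_spec χ').1, map_one, Units.val_one, mul_one,
      (CharArith.irr_degree_spec ψ).1, hψ] at hcl
    have hcl' : Cfsg.charDegree (χ' : G → ℂ) =
        e * (inertia (fun y : K => (ψ : K → ℂ) y * ((lam.comp π) y : ℂ))).index * b := by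
      exact_mod_cast hcl
    have hdvd := Subgroup.index_dvd_of_le hηK
    have h2 : K.index * b ≤ Cfsg.charDegree (χ' : G → ℂ) :=
      Nat.le_of_dvd (CharArith.irr_degree_spec χ').2
        (hcl' ▸ Nat.mul_dvd_mul_right (dvd_mul_of_dvd_right hdvd e) b)
    rw [hKi] at h2
    have hbpos : 0 < b := by omega
    nlinarith
  have hNK : N ≤ K := fun y hy => by
    rw [← hK, Subgroup.mem_comap, QuotientGroup.mk'_apply, (QuotientGroup.eq_one_iff y).2 hy]
    exact one_mem S
  have hrel := relIndex_le_of_vanish hNK χ hirr hv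
  rw [hχ] at hrel
  rcases Nat.lt_or_ge b 3 with hb2 | hb3
  · -- `b = 2` does not occur
    exfalso
    have hb : b = 2 := by omega
    subst hb
    have hS2 : S.index = 2 := by omega
    have hg2 : g₀ * g₀ ∈ S := by
      simpa [sq] using (hS2 ▸ S.pow_index_mem g₀ : g₀ ^ 2 ∈ S)
    have hg₀S : g₀ ∉ S := fun e => hg₀ (hSY e)
    have hginv : g₀ * g₀ = 1 := hfree g₀ hg₀S _ hg2 (mul_assoc _ _ _)
    have hodd : ¬ 2 ∣ Nat.card S := by
      intro h2
      obtain ⟨s, hs⟩ := exists_prime_orderOf_dvd_card' 2 h2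
      have hs2 : (s : G ⧸ N) * (s : G ⧸ N) = 1 := by
        have := pow_orderOf_eq_one s
        rw [hs, sq] at this
        exact congrArg Subtype.val this
      -- `s (g s g⁻¹)` is fixed by `g`
      have hconj : g₀ * (s : G ⧸ N) * g₀⁻¹ ∈ S := hSn.conj_mem _ s.2 g₀
      have hfix : ((s : G ⧸ N) * (g₀ * s * g₀⁻¹)) * g₀ = g₀ * ((s : G ⧸ N) * (g₀ * s * g₀⁻¹)) := by
        have hg' : g₀⁻¹ = g₀ := inv_eq_of_mul_eq_one_right hginv
        have hc : (s : G ⧸ N) * (g₀ * s * g₀⁻¹) = g₀ * s * g₀⁻¹ * s := hS s s.2 _ hconj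
        calc _ = (s : G ⧸ N) * g₀ * s := by group
          _ = g₀ * (g₀ * s * g₀⁻¹ * s) := by
            rw [hg']; simp only [← mul_assoc, hginv, one_mul]
          _ = _ := by rw [hc]
      have h3 := hfree g₀ hg₀S _ (mul_mem s.2 hconj) hfix
      have h4 : g₀ * (s : G ⧸ N) * g₀⁻¹ = s :=
        (eq_inv_of_mul_eq_one_right h3).trans (inv_eq_of_mul_eq_one_right hs2)
      have h5 : (s : G ⧸ N) * g₀ = g₀ * s := (mul_inv_eq_iff_eq_mul.1 h4).symm
      have h6 := hfree g₀ hg₀S _ s.2 h5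
      rw [← orderOf_eq_one_iff, Subgroup.orderOf_coe, hs] at h6
      norm_num at h6
    have hcardS : N.relIndex K = Nat.card S := by
      have hker : π.ker = N.subgroupOf K := by
        ext y
        rw [MonoidHom.mem_ker, Subgroup.mem_subgroupOf, ← QuotientGroup.eq_one_iff (N := N),
          Subtype.ext_iff]
        rfl
      have hsurj : Function.Surjective π := by
        rintro ⟨s, hs⟩
        obtain ⟨y, rfl⟩ := QuotientGroup.mk'_surjective N s
        exact ⟨⟨y, by rw [← hK]; exact hs⟩, Subtype.ext rfl⟩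
      rw [Subgroup.relIndex, ← hker, Subgroup.index_ker, MonoidHom.range_eq_top.2 hsurj,
        Subgroup.card_top]
    -- so `[K : N] = 3`, but the norm of `ψ` on `N` cannot be three
    have h3 : Nat.card S = 3 := by
      have h1 : 1 < Nat.card S := Finite.one_lt_card
      have h2 : Nat.card S ≤ 4 := by rw [← hcardS]; simpa using hrel
      omega
    letI := Fintype.ofFinite N
    obtain ⟨c, hc, hexp, hnorm⟩ := IsChar.exists_mult (isCharacter_res N (IsIrr.isCharacter χ.2))
    have hn3 : Cfsg.classInner (fun n : N => (χ : G → ℂ) n) (fun n : N => (χ : G → ℂ) n) =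
        (3 : ℂ) := by
      have h1 := classInner_irr_self hirr
      rw [Cfsg.classInner, inv_mul_eq_iff_eq_mul₀ (Nat.cast_ne_zero.2 Nat.card_pos.ne'), mul_one]
        at h1
      have h2 : ∑ y : K, (χ : G → ℂ) y * conj ((χ : G → ℂ) y) =
          ∑ n : N, (χ : G → ℂ) n * conj ((χ : G → ℂ) n) := by
        refine (Finset.sum_of_injOn (Subgroup.inclusion hNK)
          (fun a _ b _ h => Subgroup.inclusion_injective hNK h) (fun a _ => Finset.mem_univ _)
          (fun y _ hy => ?_) fun n _ => rfl).symm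
        rw [hv y y.2 fun hyN => hy ⟨⟨_, hyN⟩, Finset.mem_coe.2 (Finset.mem_univ _),
          Subtype.ext rfl⟩, zero_mul]
      rw [h2] at h1
      have h5 : Nat.card K = Nat.card N * N.relIndex K := by
        rw [← Nat.card_congr (Subgroup.subgroupOfEquivOfLe hNK).toEquiv]
        exact ((N.subgroupOf K).card_mul_index).symm
      rw [hcardS, h3] at h5
      rw [Cfsg.classInner, h1, h5, Nat.cast_mul, ← mul_assoc,
        inv_mul_cancel₀ (Nat.cast_ne_zero.2 Nat.card_pos.ne'), one_mul]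
      norm_num
    rw [hnorm] at hn3
    have hsq : ∑ ψ, c ψ ^ 2 = 3 := by exact_mod_cast hn3
    have hle : ∑ ψ, c ψ ≤ 2 := by
      have h1 := congrFun hexp 1
      simp only [OneMemClass.coe_one, Finset.sum_apply, Pi.smul_apply, smul_eq_mul,
        (CharArith.irr_degree_spec χ).1, hχ] at h1
      have h2 : (2 : ℕ) = ∑ ψ : Cfsg.IrrCharacter N, c ψ * Cfsg.charDegree (ψ : N → ℂ) := by
        have : ((2 : ℕ) : ℂ) = ((∑ ψ : Cfsg.IrrCharacter N,
            c ψ * Cfsg.charDegree (ψ : N → ℂ) : ℕ) : ℂ) := by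
          push_cast
          rw [Nat.cast_ofNat] at h1
          rw [h1]
          exact Finset.sum_congr rfl fun ψ _ => by rw [(CharArith.irr_degree_spec ψ).1]
        exact_mod_cast this
      rw [h2]
      exact Finset.sum_le_sum fun ψ _ => Nat.le_mul_of_pos_right _ (CharArith.irr_degree_spec ψ).2
    by_cases hall : ∀ ψ, c ψ ≤ 1
    · have : ∑ ψ, c ψ ^ 2 ≤ ∑ ψ, c ψ := Finset.sum_le_sum fun ψ _ => by
        have := hall ψ; nlinarith
      omega
    · push Not at hall
      obtain ⟨ψ₀, hψ₀⟩ := hall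
      have h7 : c ψ₀ = 2 := le_antisymm
        ((Finset.single_le_sum (fun ψ _ => Nat.zero_le (c ψ)) (Finset.mem_univ ψ₀)).trans hle) hψ₀
      have h8 := Finset.single_le_sum (f := fun ψ => c ψ ^ 2) (fun ψ _ => Nat.zero_le _)
        (Finset.mem_univ ψ₀)
      simp only [h7] at h8
      omega
  · refine Or.inr ⟨N, hhalf, Or.inl ⟨hb3, ?_⟩⟩
    rw [← Subgroup.relIndex_mul_index hNK, hKi, show b ^ 3 = b ^ 2 * b by ring]
    exact Nat.mul_le_mul hrel hSi

theorem step (h : DegLE G b) (hna : commutator G ≠ ⊥) : Step G b := by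
  classical
  letI := Fintype.ofFinite G
  obtain ⟨N, ⟨hNn, hN⟩, hmax⟩ := (Set.toFinite {N : Subgroup G | N.Normal ∧ ¬ commutator G ≤ N}).exists_maximal
    ⟨⊥, inferInstance, fun e => hna (le_bot_iff.1 e)⟩
  haveI := hNn
  have hmap : commutator (G ⧸ N) = (commutator G).map (QuotientGroup.mk' N) := by
    rw [commutator_def, commutator_def, Subgroup.map_commutator,
      Subgroup.map_top_of_surjective _ (QuotientGroup.mk'_surjective N)]
  have hS0 : commutator (G ⧸ N) ≠ ⊥ := by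
    rw [hmap, Ne, Subgroup.map_eq_bot_iff, QuotientGroup.ker_mk']; exact hN
  have hmin : ∀ M : Subgroup (G ⧸ N), M.Normal → M ≠ ⊥ → commutator (G ⧸ N) ≤ M := by
    intro M hM hMb
    by_contra hle
    refine hMb ?_
    have h1 : M.comap (QuotientGroup.mk' N) ≤ N := hmax ⟨hM.comap _, fun e => hle (by
      rw [hmap]; exact Subgroup.map_le_iff_le_comap.2 e)⟩ (by
        intro y hy
        rw [Subgroup.mem_comap, QuotientGroup.mk'_apply, (QuotientGroup.eq_one_iff y).2 hy]
        exact one_mem M)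
    rw [Subgroup.eq_bot_iff_forall]
    intro y hy
    obtain ⟨y, rfl⟩ := QuotientGroup.mk'_surjective N y
    exact (QuotientGroup.eq_one_iff y).2 (h1 hy)
  letI := Fintype.ofFinite (G ⧸ N)
  obtain ⟨θ, hθ1⟩ := exists_nonlinear (Q := G ⧸ N) hS0
  have hhalf : DegLE N (b / 2) := degLE_half h N
    (θ := fun g => (θ : G ⧸ N → ℂ) (g : G ⧸ N)) (isIrrCharacter_mk N θ.2) (fun n hn => by
      show (θ : G ⧸ N → ℂ) (n : G ⧸ N) = (θ : G ⧸ N → ℂ) ((1 : G) : G ⧸ N)
      rw [(QuotientGroup.eq_one_iff n).2 hn, QuotientGroup.mk_one]) (by simpa using hθ1)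
  by_cases hZ : Subgroup.center (G ⧸ N) = ⊥
  · by_cases hS : ∀ a ∈ commutator (G ⧸ N), ∀ c ∈ commutator (G ⧸ N), a * c = c * a
    · exact step_abelian h N hhalf hmin hS hS0 hZ
    · exact step_nonabelian h N hhalf hmin hS
  · refine step_central h N θ.2 hθ1 ?_ fun g x => hmin _ inferInstance hZ
      (Subgroup.commutator_mem_commutator (Subgroup.mem_top g) (Subgroup.mem_top x))
    intro c hc
    by_contra hc1
    refine hθ1 (degree_one_of_commutator_le_ker θ.2 fun g hg => ?_)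
    exact hmin (kerSubgroup (IsIrr.isCharacter θ.2)) (kerSubgroup_normal _)
      (fun e => hc1 (Subgroup.mem_bot.1 (e ▸ (hc : c ∈ kerSubgroup (IsIrr.isCharacter θ.2))))) hg

theorem exists_abelian_index : ∀ (b : ℕ) (G : Type u) [Group G] [Finite G], DegLE G b →
    ∃ A : Subgroup G, (∀ x ∈ A, ∀ y ∈ A, x * y = y * x) ∧ A.index ≤ b.factorial ^ 2 := by
  intro b
  induction b using Nat.strong_induction_on with
  | _ b ih =>
  intro G _ _ h
  letI := Fintype.ofFinite G
  by_cases hna : commutator G = ⊥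
  · refine ⟨⊤, fun x _ y _ => ?_, ?_⟩
    · have := Subgroup.commutator_mem_commutator (Subgroup.mem_top x) (Subgroup.mem_top y)
      rw [← commutator_def, hna, Subgroup.mem_bot, commutatorElement_eq_one_iff_mul_comm] at this
      exact this
    · rw [Subgroup.index_top]; exact Nat.one_le_pow _ _ (Nat.factorial_pos b)
  have hb : 2 ≤ b := by
    obtain ⟨χ, hχ⟩ := exists_nonlinear (Q := G) hna
    have h1 := h χ
    have h2 := CharArith.irr_degree_spec χ
    rcases Nat.lt_or_ge (Cfsg.charDegree (χ : G → ℂ)) 2 with hlt | hge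
    · exfalso
      exact hχ (by rw [h2.1, show Cfsg.charDegree (χ : G → ℂ) = 1 by omega, Nat.cast_one])
    · omega
  have key : ∀ (H : Subgroup G) (c : ℕ), DegLE H c → c < b → ∀ m : ℕ, H.index ≤ m →
      c.factorial ^ 2 * m ≤ b.factorial ^ 2 →
      ∃ A : Subgroup G, (∀ x ∈ A, ∀ y ∈ A, x * y = y * x) ∧ A.index ≤ b.factorial ^ 2 := by
    intro H c hH hc m hm hle
    obtain ⟨A, hA, hAi⟩ := ih c hc H hH
    refine ⟨A.map H.subtype, ?_, ?_⟩
    · rintro _ ⟨x, hx, rfl⟩ _ ⟨y, hy, rfl⟩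
      rw [← map_mul, hA x hx y hy, map_mul]
    · rw [Subgroup.index_map_subtype]
      exact (Nat.mul_le_mul hAi hm).trans hle
  rcases step h hna with ⟨H, hi, hd⟩ | ⟨N, hd, hcase⟩
  · refine key H (b - 1) hd (by omega) _ hi ?_
    rw [← mul_pow, mul_comm, Nat.mul_factorial_pred (by omega)]
  · have hdb : b / 2 < b := Nat.div_lt_self (by omega) one_lt_two
    rcases hcase with ⟨h3, hi⟩ | ⟨h5, hi⟩
    · refine key N _ hd hdb _ hi ?_
      obtain ⟨k, rfl⟩ : ∃ k, b = k + 3 := ⟨b - 3, by omega⟩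
      have h1 : ((k + 3) / 2).factorial ≤ (k + 1).factorial := Nat.factorial_le (by omega)
      have e : (k + 3).factorial = (k + 3) * ((k + 2) * (k + 1).factorial) := by
        rw [Nat.factorial_succ (k + 2), Nat.factorial_succ (k + 1)]
      have h2 : k + 3 ≤ (k + 2) ^ 2 := by nlinarith
      calc ((k + 3) / 2).factorial ^ 2 * (k + 3) ^ 3
          ≤ (k + 1).factorial ^ 2 * ((k + 3) ^ 2 * (k + 2) ^ 2) := by
            refine Nat.mul_le_mul (Nat.pow_le_pow_left h1 2) ?_
            rw [pow_succ]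
            exact Nat.mul_le_mul_left _ h2
        _ = _ := by rw [e]; ring
    · refine key N _ hd hdb _ hi ?_
      obtain ⟨k, rfl⟩ : ∃ k, b = k + 5 := ⟨b - 5, by omega⟩
      have h1 : ((k + 5) / 2).factorial ≤ (k + 2).factorial := Nat.factorial_le (by omega)
      have e : (k + 5).factorial = (k + 5) * ((k + 4) * ((k + 3) * (k + 2).factorial)) := by
        rw [Nat.factorial_succ (k + 4), Nat.factorial_succ (k + 3), Nat.factorial_succ (k + 2)]
      have h2 : k + 5 ≤ (k + 4) * (k + 3) := by nlinarith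
      calc ((k + 5) / 2).factorial ^ 2 * (k + 5) ^ 4
          ≤ (k + 2).factorial ^ 2 * ((k + 5) ^ 2 * ((k + 4) * (k + 3)) ^ 2) := by
            refine Nat.mul_le_mul (Nat.pow_le_pow_left h1 2) ?_
            rw [show 4 = 2 + 2 from rfl, pow_add]
            exact Nat.mul_le_mul_left _ (Nat.pow_le_pow_left h2 2)
        _ = _ := by rw [e]; ring

end Cfsg.Agent.AbelianIndex
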